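import Cfsg.Agent.CTFrame.Root
import Cfsg.Agent.AGraded.Coord

/-!
# A family of `SL₂`'s with the local structure of the frame of `SLₙ` is `A`-graded

`Frame F K`: `K i j` (`i ≠ j` in `ι`) symmetric, disjoint ones commute, for distinct `i j k` there is a homomorphism
`SL (Fin 3) F →* G` with central kernel mapping the standard `SL₂`'s onto `K i j`, `K j k`, `K i k`.  Nothing is assumed on
the compatibility of these homomorphisms.  `F` finite of odd characteristic, `ι` with at least four elements: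
`exists_graded`, `exists_psl`.
-/

set_option autoImplicit false
set_option linter.unusedSectionVars false
set_option linter.unusedVariables false
set_option linter.dupNamespace false

namespace Cfsg.Agent.CTFrame.Frame

open Matrix Cfsg.Agent.CTFrame.SL3 Cfsg.Agent.CTFrame.Root

universe u v w

variable {F : Type u} [Field F] {G : Type v} [Group G] {ι : Type w}

/-- `φ` identifies the three `SL₂`'s of a triple -/
structure Tr (K : ι → ι → Subgroup G) (φ : S3 F →* G) (v : Fin 3 → ι) : Prop where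
  ker : φ.ker ≤ Subgroup.center (S3 F)
  std : ∀ a b, a ≠ b → (std a b).map φ = K (v a) (v b)

variable (F) in
/-- frame of `SL₂`'s -/
structure Frame (K : ι → ι → Subgroup G) : Prop where
  symm : ∀ i j, K i j = K j i
  comm : ∀ i j k l, i ≠ j → k ≠ l → i ≠ k → i ≠ l → j ≠ k → j ≠ l → Par (K i j) (K k l)
  triple : ∀ v : Fin 3 → ι, Function.Injective v → ∃ φ : S3 F →* G, Tr K φ v

/-- involutions of `K i j` -/
def IsT (K : ι → ι → Subgroup G) (i j : ι) (t : G) : Prop := t ∈ K i j ∧ t * t = 1 ∧ t ≠ 1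

theorem third (a b : Fin 3) (h : a ≠ b) : ∃ c, b ≠ c ∧ a ≠ c := by
  revert a b; decide

/-- the vector `![i, j, k]` -/
theorem vec_inj {i j k : ι} (hij : i ≠ j) (hjk : j ≠ k) (hik : i ≠ k) :
    Function.Injective (![i, j, k] : Fin 3 → ι) := by
  intro a b hab
  fin_cases a <;> fin_cases b <;> first | rfl | (exfalso; revert hab; simp [hij, hjk, hik, hij.symm, hjk.symm, hik.symm])

section T

variable {K : ι → ι → Subgroup G} {φ : S3 F →* G} {v : Fin 3 → ι}

theorem Tr.flip (h : Tr K φ v) : Tr K (φ.comp gr) v where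
  ker := ker_comp h.ker gr_injective
  std a b hab := by
    rw [← Subgroup.map_map]
    unfold SL3.std
    rw [Subgroup.map_sup, map_gr_X hab, map_gr_X hab.symm, sup_comm]
    exact h.std a b hab

theorem Tr.perm (h : Tr K φ v) (σ : Equiv.Perm (Fin 3)) : Tr K (φ.comp (pm σ)) (v ∘ σ.symm) where
  ker := ker_comp h.ker (pm_injective σ)
  std a b hab := by
    have h1 := h.std (σ.symm a) (σ.symm b) (fun e => hab (σ.symm.injective e))
    rw [Function.comp_apply, Function.comp_apply, ← h1, ← Subgroup.map_map]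
    congr 1
    have e1 := map_pm_X (F := F) σ (a := σ.symm a) (b := σ.symm b) (fun e => hab (σ.symm.injective e))
    have e2 := map_pm_X (F := F) σ (a := σ.symm b) (b := σ.symm a) (fun e => hab (σ.symm.injective e.symm))
    simp only [Equiv.apply_symm_apply] at e1 e2
    unfold SL3.std
    rw [Subgroup.map_sup, e1, e2]

theorem Tr.isT (h : Tr K φ v) (h2 : (2 : F) ≠ 0) {a b c : Fin 3} (hab : a ≠ b) (hbc : b ≠ c) (hac : a ≠ c) :
    IsT K (v a) (v b) (φ (dg c)) := by
  refine ⟨?_, ?_, ?_⟩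
  · rw [← h.std a b hab]
    exact ⟨_, dg_mem_std hab hbc hac, rfl⟩
  · rw [← map_mul, dg_sq, map_one]
  · intro h1
    exact dg_ne h2 c (eq_one_of_map hab hbc hac φ h.ker (dg_mem_Blk hab hbc hac) h1)

theorem Tr.eq_of_isT (h : Tr K φ v) (h2 : (2 : F) ≠ 0) {a b c : Fin 3} (hab : a ≠ b) (hbc : b ≠ c) (hac : a ≠ c)
    {t : G} (ht : IsT K (v a) (v b) t) : t = φ (dg c) := by
  obtain ⟨h3, h4, h5⟩ := ht
  rw [← h.std a b hab] at h3
  obtain ⟨s, hs, rfl⟩ := h3
  have hs' := std_le_Blk hab hbc hac hs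
  rw [← map_mul] at h4
  have h6 := eq_one_of_map hab hbc hac φ h.ker (mul_mem hs' hs') h4
  have h7 : s ≠ 1 := by
    rintro rfl
    exact h5 (map_one φ)
  rw [eq_dg hab hbc hac h2 hs' h6 h7]

end T

section Root

variable {K : ι → ι → Subgroup G}

/-- roots of `K i j` -/
def IsRoot (F : Type u) [Field F] (p : ℕ) (K : ι → ι → Subgroup G) (i j : ι) (P : Subgroup G) : Prop :=
  P ≤ K i j ∧ Nat.card P = Nat.card F ∧ IsPGroup p P ∧
    ∀ k, k ≠ i → k ≠ j → ∀ t, IsT K i k t ∨ IsT K j k t → ∀ x ∈ P, t * x * t⁻¹ ∈ P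

theorem IsRoot.symm {p : ℕ} (hK : ∀ i j, K i j = K j i) {i j : ι} {P : Subgroup G} (h : IsRoot F p K i j P) :
    IsRoot F p K j i P :=
  ⟨h.1.trans (hK i j).le, h.2.1, h.2.2.1, fun k h1 h2 t ht => h.2.2.2 k h2 h1 t ht.symm⟩

variable {φ : S3 F →* G} {v : Fin 3 → ι} {p : ℕ} [Fact p.Prime] [CharP F p] (hF : Frame F K) (h2 : (2 : F) ≠ 0)

include hF h2

/-- `T i k * T k l = T i l` -/
theorem isT_mul {i k l : ι} (hik : i ≠ k) (hkl : k ≠ l) (hil : i ≠ l) {t1 t2 t3 : G} (h1 : IsT K i k t1)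
    (h2' : IsT K k l t2) (h3 : IsT K i l t3) : t1 * t2 = t3 := by
  obtain ⟨φ, hφ⟩ := hF.triple ![i, k, l] (vec_inj hik hkl hil)
  have e1 := hφ.eq_of_isT h2 (a := 0) (b := 1) (c := 2) (by decide) (by decide) (by decide) h1
  have e2 := hφ.eq_of_isT h2 (a := 1) (b := 2) (c := 0) (by decide) (by decide) (by decide) h2'
  have e3 := hφ.eq_of_isT h2 (a := 0) (b := 2) (c := 1) (by decide) (by decide) (by decide) h3
  rw [e1, e2, e3, ← map_mul, dg_mul (a := 2) (b := 0) (c := 1) (by decide) (by decide) (by decide)]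

theorem exists_isT (h3 : ∀ i j : ι, ∃ k, k ≠ i ∧ k ≠ j) {i j : ι} (hij : i ≠ j) : ∃ t, IsT K i j t := by
  obtain ⟨k, hki, hkj⟩ := h3 i j
  obtain ⟨φ, hφ⟩ := hF.triple ![i, j, k] (vec_inj hij hkj.symm hki.symm)
  exact ⟨_, hφ.isT h2 (a := 0) (b := 1) (c := 2) (by decide) (by decide) (by decide)⟩

theorem Tr.root (hv : Function.Injective v) (hφ : Tr K φ v) {a b : Fin 3} (hab : a ≠ b) :
    IsRoot F p K (v a) (v b) ((X a b).map φ) := by
  obtain ⟨c, hbc, hac⟩ := third a b hab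
  have hle : (X a b).map φ ≤ K (v a) (v b) := by
    rw [← hφ.std a b hab]
    exact Subgroup.map_mono (X_le_std a b)
  have hn : ∀ c : Fin 3, ∀ x ∈ (X a b).map φ, φ (dg c) * x * (φ (dg c))⁻¹ ∈ (X a b).map φ := by
    rintro c _ ⟨x, hx, rfl⟩
    exact ⟨_, dg_conj_X c hab hx, by rw [map_mul, map_mul, map_inv]⟩
  refine ⟨hle, card_map_X hab hbc hac φ hφ.ker, pgroup_X hab φ, ?_⟩
  intro l hla hlb t ht x hx
  rcases ht with ht | ht
  · by_cases hlc : l = v c
    · subst hlc
      rw [hφ.eq_of_isT h2 hac hbc.symm hab ht]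
      exact hn _ x hx
    · have h3 := hφ.isT h2 hac hbc.symm hab
      obtain ⟨t2, h4⟩ : ∃ t, IsT K (v c) l t := by
        obtain ⟨ψ, hψ⟩ := hF.triple ![v c, l, v a] (vec_inj (Ne.symm hlc) hla (fun e => hac (hv e).symm))
        exact ⟨_, hψ.isT h2 (a := 0) (b := 1) (c := 2) (by decide) (by decide) (by decide)⟩
      have h5 := isT_mul hF h2 (fun e => hac (hv e)) (Ne.symm hlc) (Ne.symm hla) h3 h4 ht
      have h6 : t2 * x = x * t2 := (hF.comm (v a) (v b) (v c) l (fun e => hab (hv e)) (Ne.symm hlc)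
        (fun e => hac (hv e)) (Ne.symm hla) (fun e => hbc (hv e)) (Ne.symm hlb) x (hle hx) t2 h4.1).symm
      rw [← h5]
      have e : φ (dg b) * t2 * x * (φ (dg b) * t2)⁻¹ = φ (dg b) * x * (φ (dg b))⁻¹ := by
        rw [mul_assoc (φ (dg b)), h6]; group
      rw [e]
      exact hn _ x hx
  · by_cases hlc : l = v c
    · subst hlc
      rw [hφ.eq_of_isT h2 hbc hac.symm hab.symm ht]
      exact hn _ x hx
    · have h3 := hφ.isT h2 hbc hac.symm hab.symm
      obtain ⟨t2, h4⟩ : ∃ t, IsT K (v c) l t := by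
        obtain ⟨ψ, hψ⟩ := hF.triple ![v c, l, v a] (vec_inj (Ne.symm hlc) hla (fun e => hac (hv e).symm))
        exact ⟨_, hψ.isT h2 (a := 0) (b := 1) (c := 2) (by decide) (by decide) (by decide)⟩
      have h5 := isT_mul hF h2 (fun e => hbc (hv e)) (Ne.symm hlc) (Ne.symm hlb) h3 h4 ht
      have h6 : t2 * x = x * t2 := (hF.comm (v a) (v b) (v c) l (fun e => hab (hv e)) (Ne.symm hlc)
        (fun e => hac (hv e)) (Ne.symm hla) (fun e => hbc (hv e)) (Ne.symm hlb) x (hle hx) t2 h4.1).symm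
      rw [← h5]
      have e : φ (dg a) * t2 * x * (φ (dg a) * t2)⁻¹ = φ (dg a) * x * (φ (dg a))⁻¹ := by
        rw [mul_assoc (φ (dg a)), h6]; group
      rw [e]
      exact hn _ x hx

theorem Tr.root' (hv : Function.Injective v) (hφ : Tr K φ v) {a b : Fin 3} (hab : a ≠ b) :
    IsRoot F p K (v a) (v b) ((X b a).map φ) :=
  (Tr.root hF h2 hv hφ hab.symm).symm hF.symm

theorem Tr.root_eq [Finite F] (hv : Function.Injective v) (hφ : Tr K φ v) {a b : Fin 3} (hab : a ≠ b)
    {P : Subgroup G} (hP : IsRoot F p K (v a) (v b) P) : P = (X a b).map φ ∨ P = (X b a).map φ := by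
  obtain ⟨c, hbc, hac⟩ := third a b hab
  refine Root.root_eq hab hbc hac φ h2 hφ.ker hP.2.2.1 ?_ ?_ hP.2.1
  · rw [hφ.std a b hab]
    exact hP.1
  · exact hP.2.2.2 (v c) (fun e => hac (hv e).symm) (fun e => hbc (hv e).symm) _
      (Or.inr (hφ.isT h2 hbc hac.symm hab.symm))

/-- orientation -/
theorem exists_tr [Finite F] (hv : Function.Injective v) {P : Subgroup G} (hP : IsRoot F p K (v 0) (v 1) P) :
    ∃ φ : S3 F →* G, Tr K φ v ∧ (X 0 1).map φ = P := by
  obtain ⟨φ, hφ⟩ := hF.triple v hv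
  rcases Tr.root_eq hF h2 hv hφ (by decide) hP with h | h
  · exact ⟨φ, hφ, h.symm⟩
  · refine ⟨_, hφ.flip, ?_⟩
    rw [← Subgroup.map_map, map_gr_X (by decide), h]

end Root

end Cfsg.Agent.CTFrame.Frame
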