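import Cfsg.Agent.CTFrame.Main
import Cfsg.Agent.CTFrame.Hom

/-!
# The homomorphism `SL ι F → G` of a frame

`exists_hom`: `Frame F K`, `4 ≤ |ι|`, `|F|` odd, `G` any finite group: there is a homomorphism from `SL ι F` onto the
subgroup generated by the `K i j`, with central kernel, which maps the standard `SL₂`'s onto the `K i j`.
-/

set_option autoImplicit false
set_option linter.unusedSectionVars false
set_option linter.unusedVariables false

namespace Cfsg.Agent.CTFrame.HomFrame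

open scoped commutatorElement
open Matrix Cfsg.Agent.AGraded Cfsg.Agent.CTFrame.SL3 Cfsg.Agent.CTFrame.Root Cfsg.Agent.CTFrame.Frame
  Cfsg.Agent.CTFrame.Main

universe u v w

section Three

variable {F : Type u} [Field F] {a b c : Fin 3} (hab : a ≠ b) (hbc : b ≠ c) (hac : a ≠ c)

/-- Weyl element of `SL₃` -/
def W (s : F) : S3 F :=
  SpecialLinearGroup.transvection hab s * SpecialLinearGroup.transvection hab.symm (-s⁻¹) *
    SpecialLinearGroup.transvection hab s

include hbc hac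

theorem W_mem (s : F) : W hab s ∈ (Blk c : Subgroup (S3 F)) :=
  mul_mem (mul_mem (X_le_Blk hab hbc hac (tr_mem hab _)) (X_le_Blk hab.symm hac hbc (tr_mem hab.symm _)))
    (X_le_Blk hab hbc hac (tr_mem hab _))

theorem W_entries {s : F} (hs : s ≠ 0) : en (W hab s) a a = 0 ∧ en (W hab s) a b = s ∧ en (W hab s) b a = -s⁻¹ ∧
    en (W hab s) b b = 0 := by
  unfold W
  simp only [en_mul, sum3 hab hbc hac, tr_coe]
  simp [hab, hab.symm, hbc, hbc.symm, hac, hac.symm, hs]

include hab in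
theorem blk_mul {g h : S3 F} (hg : g ∈ (Blk c : Subgroup (S3 F))) (hh : h ∈ (Blk c : Subgroup (S3 F))) :
    en (g * h) a a = en g a a * en h a a + en g a b * en h b a ∧
    en (g * h) a b = en g a a * en h a b + en g a b * en h b b ∧
    en (g * h) b a = en g b a * en h a a + en g b b * en h b a ∧
    en (g * h) b b = en g b a * en h a b + en g b b * en h b b := by
  obtain ⟨q1, q2, q3, q4, q5, -⟩ := blk_entries hab hbc hac hg
  obtain ⟨r1, r2, r3, r4, r5, -⟩ := blk_entries hab hbc hac hh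
  simp only [en_mul, sum3 hab hbc hac, q4, q5, r2, r3, zero_mul, add_zero, and_self]

theorem W_mul {s t r : F} (hs : s ≠ 0) (ht : t ≠ 0) (hr : r ≠ 0) :
    W hab s * W hab (-r) * (W hab t * W hab (-r)) = W hab (s * t * r⁻¹) * W hab (-r) := by
  have hr' : -r ≠ 0 := neg_ne_zero.2 hr
  have hstr : s * t * r⁻¹ ≠ 0 := mul_ne_zero (mul_ne_zero hs ht) (inv_ne_zero hr)
  have m1 := W_mem hab hbc hac s
  have m2 := W_mem hab hbc hac (-r)
  have m3 := W_mem hab hbc hac t
  have m4 := W_mem hab hbc hac (s * t * r⁻¹)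
  obtain ⟨a1, a2, a3, a4⟩ := W_entries hab hbc hac hs
  obtain ⟨b1, b2, b3, b4⟩ := W_entries hab hbc hac hr'
  obtain ⟨c1, c2, c3, c4⟩ := W_entries hab hbc hac ht
  obtain ⟨d1, d2, d3, d4⟩ := W_entries hab hbc hac hstr
  obtain ⟨e1, e2, e3, e4⟩ := blk_mul hab hbc hac m1 m2
  obtain ⟨f1, f2, f3, f4⟩ := blk_mul hab hbc hac m3 m2
  obtain ⟨g1, g2, g3, g4⟩ := blk_mul hab hbc hac (mul_mem m1 m2) (mul_mem m3 m2)
  obtain ⟨k1, k2, k3, k4⟩ := blk_mul hab hbc hac m4 m2
  refine blk_ext hab hbc hac (mul_mem (mul_mem m1 m2) (mul_mem m3 m2)) (mul_mem m4 m2) ?_ ?_ ?_ ?_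
  · rw [g1, k1, e1, e2, f1, f3, a1, a2, b1, b3, b4, c1, c2, c4, d1, d2]
    field_simp
    try ring
  · rw [g2, k2, e1, e2, f2, f4, a1, a2, b1, b2, b3, b4, c1, c2, c3, c4, d1, d2]
    ring
  · rw [g3, k3, e3, e4, f1, f3, a3, a4, b1, b2, b3, b4, c1, c2, c3, c4, d3, d4]
    ring
  · rw [g4, k4, e3, e4, f2, f4, a3, a4, b1, b2, b3, b4, c1, c2, c3, c4, d3, d4]
    field_simp
    try ring

end Three

section H

variable {F : Type u} [Field F] {G : Type v} [Group G] {ι : Type w} [Fintype ι] [DecidableEq ι]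

/-- root elements which are parametrised by `SL₃` on triples have multiplicative `h_{ij}` -/
theorem hrel {x : ι → ι → F → G} (hx : SteinRel x) (hne : ∀ i j, i ≠ j → x i j 1 ≠ 1)
    (htr : ∀ i j, i ≠ j → ∃ (v : Fin 3 → ι) (φ : S3 F →* G), v 0 = i ∧ v 1 = j ∧ Function.Injective v ∧
      φ.ker ≤ Subgroup.center (S3 F) ∧ ∀ a b, a ≠ b → ∀ s, x (v a) (v b) s ∈ (X a b).map φ) : Torus.HRel x := by
  intro i j hij s t hs ht
  obtain ⟨v, φ, rfl, rfl, hv, hker, hmem⟩ := htr i j hij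
  have hv' : ∀ {a b : Fin 3}, a ≠ b → v a ≠ v b := fun h e => h (hv e)
  have hc : ∀ a b : Fin 3, ∀ s : F, ∃ c : F, ∀ hab : a ≠ b,
      x (v a) (v b) s = φ (SpecialLinearGroup.transvection hab c) := by
    intro a b s
    by_cases hab : a = b
    · exact ⟨0, fun h => absurd hab h⟩
    · obtain ⟨y, hy, hy'⟩ := hmem a b hab s
      obtain ⟨c, rfl⟩ := (mem_X hab).1 hy
      exact ⟨c, fun _ => hy'.symm⟩
  choose c hc using hc
  have hinj : ∀ a b (hab : a ≠ b) (s t : F), φ (SpecialLinearGroup.transvection hab s) =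
      φ (SpecialLinearGroup.transvection hab t) → s = t := by
    intro a b hab s t hst
    obtain ⟨d, hbd, had⟩ := third a b hab
    exact tr_inj hab (inj_on hab hbd had φ hker (X_le_Blk hab hbd had (tr_mem hab _))
      (X_le_Blk hab hbd had (tr_mem hab _)) hst)
  have hbr : ∀ a b d (hab : a ≠ b) (hbd : b ≠ d) (had : a ≠ d) (s t : F), c a d (s * t) = c a b s * c b d t := by
    intro a b d hab hbd had s t
    apply hinj a d had
    rw [← hc a d _ had, ← tr_br hab hbd had, map_commutatorElement, ← hc a b _ hab, ← hc b d _ hbd,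
      hx.br _ _ _ (hv' hab) (hv' hbd) (hv' had)]
  have hadd : ∀ a b (hab : a ≠ b) (s t : F), c a b (s + t) = c a b s + c a b t := by
    intro a b hab s t
    apply hinj a b hab
    rw [tr_add, map_mul, ← hc a b _ hab, ← hc a b _ hab, ← hc a b _ hab, hx.add _ _ (hv' hab)]
  have hzero : ∀ a b (hab : a ≠ b), c a b 0 = 0 := by
    intro a b hab
    have := hadd a b hab 0 0
    rw [add_zero] at this
    exact left_eq_add.1 this
  have hneg : ∀ a b (hab : a ≠ b) (s : F), c a b (-s) = -c a b s := by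
    intro a b hab s
    have := hadd a b hab (-s) s
    rw [neg_add_cancel, hzero a b hab] at this
    exact eq_neg_of_add_eq_zero_left this.symm
  have hone : ∀ a b (hab : a ≠ b), c a b 1 ≠ 0 := by
    intro a b hab h0
    apply hne _ _ (hv' hab)
    rw [hc a b 1 hab, h0, tr_zero, map_one]
  have h01 : (0 : Fin 3) ≠ 1 := by decide
  have h12 : (1 : Fin 3) ≠ 2 := by decide
  have h02 : (0 : Fin 3) ≠ 2 := by decide
  -- `c 0 1` and `c 1 0`
  have hκ : c 0 1 1 * c 1 0 1 = 1 := by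
    have e1 := hbr 1 0 2 h01.symm h02 h12 1 1
    have e2 := hbr 0 1 2 h01 h12 h02 1 1
    rw [mul_one] at e1 e2
    have e3 : c 0 2 1 * (c 0 1 1 * c 1 0 1) = c 0 2 1 * 1 := by
      rw [mul_one]
      calc c 0 2 1 * (c 0 1 1 * c 1 0 1) = c 0 1 1 * (c 1 0 1 * c 0 2 1) := by ring
        _ = c 0 2 1 := by rw [← e1, ← e2]
    exact mul_left_cancel₀ (hone 0 2 h02) e3
  have hinvc : ∀ s : F, s ≠ 0 → c 0 1 s * c 1 0 s⁻¹ = 1 := by
    intro s hs
    -- c 1 0 s⁻¹ = c 1 2 s⁻¹ * c 2 0 1, c 0 1 s * c 1 2 s⁻¹ = c 0 2 1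
    have e1 := hbr 1 2 0 h12 h02.symm h01.symm s⁻¹ 1
    have e2 := hbr 0 1 2 h01 h12 h02 s s⁻¹
    have e3 := hbr 0 1 2 h01 h12 h02 1 1
    have e4 := hbr 1 2 0 h12 h02.symm h01.symm 1 1
    rw [mul_one] at e1 e3 e4
    rw [mul_inv_cancel₀ hs] at e2
    calc c 0 1 s * c 1 0 s⁻¹ = (c 0 1 s * c 1 2 s⁻¹) * c 2 0 1 := by rw [e1]; ring
      _ = c 0 1 1 * (c 1 2 1 * c 2 0 1) := by rw [← e2, e3]; ring
      _ = 1 := by rw [← e4, hκ]
  have hmul : ∀ s t : F, c 0 1 (s * t) = c 0 1 s * c 0 1 t * (c 0 1 1)⁻¹ := by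
    intro s t
    rw [eq_mul_inv_iff_mul_eq₀ (hone 0 1 h01)]
    have e1 := hbr 0 2 1 h02 h12.symm h01 s t
    have e2 := hbr 0 2 1 h02 h12.symm h01 s 1
    have e3 := hbr 0 2 1 h02 h12.symm h01 1 t
    have e4 := hbr 0 2 1 h02 h12.symm h01 1 1
    rw [mul_one] at e2 e4
    rw [one_mul] at e3
    rw [e1, e2, e3, e4]
    ring
  have hcs : ∀ s : F, s ≠ 0 → c 0 1 s ≠ 0 := fun s hs h0 => by
    have := hinvc s hs
    rw [h0, zero_mul] at this
    exact zero_ne_one this
  have hw : ∀ s : F, s ≠ 0 → Weyl.w x (v 0) (v 1) s = φ (W h01 (c 0 1 s)) := by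
    intro s hs
    have e1 : c 1 0 (-s⁻¹) = -(c 0 1 s)⁻¹ := by
      rw [hneg 1 0 h01.symm, eq_inv_of_mul_eq_one_right (hinvc s hs)]
    rw [Weyl.w, W, map_mul, map_mul, hc 0 1 _ h01, hc 1 0 _ h01.symm, e1]
  have ht' : ∀ s : F, s ≠ 0 → Weyl.t x (v 0) (v 1) s = φ (W h01 (c 0 1 s) * W h01 (-(c 0 1 1))) := by
    intro s hs
    rw [Weyl.t, hw s hs, hw (-1) (neg_ne_zero.2 one_ne_zero), hneg 0 1 h01, map_mul]
  rw [ht' s hs, ht' t ht, ht' _ (mul_ne_zero hs ht), ← map_mul,
    W_mul h01 h12 h02 (hcs s hs) (hcs t ht) (hone 0 1 h01), hmul]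

/-- the root subgroup of `SL ι F` -/
def Xn (F : Type u) [Field F] (i j : ι) : Subgroup (SpecialLinearGroup ι F) :=
  Subgroup.closure {g | ∃ h : i ≠ j, ∃ t : F, g = SpecialLinearGroup.transvection h t}

/-- the standard `SL₂` of `SL ι F` -/
def stdn (F : Type u) [Field F] (i j : ι) : Subgroup (SpecialLinearGroup ι F) := Xn F i j ⊔ Xn F j i

variable [Finite F] [Finite G] {K : ι → ι → Subgroup G}

/-- **The homomorphism of a frame.** -/
theorem exists_hom (hF : Frame F K) (hι : 4 ≤ Fintype.card ι) (hodd : Odd (Nat.card F)) :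
    ∃ Φ : SpecialLinearGroup ι F →* G, Φ.ker ≤ Subgroup.center (SpecialLinearGroup ι F) ∧
      (∀ i j, i ≠ j → (stdn F i j).map Φ = K i j) ∧ Φ.range = ⨆ (i : ι) (j : ι) (_ : i ≠ j), K i j := by
  classical
  have h3 : ∀ i j : ι, ∃ k, k ≠ i ∧ k ≠ j := by
    intro i j
    obtain ⟨k, hk⟩ : ∃ k, k ∉ ({i, j} : Finset ι) := by
      by_contra hcon
      push Not at hcon
      have h1 : (Finset.univ : Finset ι) ⊆ {i, j} := fun k _ => hcon k
      have h4 := (Finset.card_le_card h1).trans (Finset.card_le_two)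
      rw [Finset.card_univ] at h4
      omega
    exact ⟨k, fun h => hk (by simp [h]), fun h => hk (by simp [h])⟩
  have hne : Nonempty ι := Fintype.card_pos_iff.1 (by omega)
  have h2 : (2 : F) ≠ 0 := by
    intro h
    have : Fintype F := Fintype.ofFinite F
    have h5 : ringChar F = 2 := by
      have h6 : ringChar F ∣ 2 := by
        rw [← ringChar.spec]
        exact_mod_cast h
      rcases (Nat.dvd_prime Nat.prime_two).1 h6 with h7 | h7
      · have := CharP.char_ne_one F (ringChar F)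
        exact absurd h7 this
      · exact h7
    have h8 := FiniteField.even_card_of_char_two h5
    rw [Nat.card_eq_fintype_card] at hodd
    rw [Nat.odd_iff] at hodd
    omega
  have : Fact (ringChar F).Prime := ⟨CharP.char_is_prime F _⟩
  obtain ⟨Y, hg, hc, hK, htr⟩ := exists_graded (p := ringChar F) hF h2 h3
  obtain ⟨F', i1, i2, x', hx', hX'⟩ := hg.exists_field hι
  have hcard : Nat.card F' = Nat.card F := by
    obtain ⟨i⟩ := hne
    obtain ⟨j, hj, -⟩ := h3 i i
    rw [← (hc i j hj.symm).1]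
    refine Nat.card_congr (Equiv.ofBijective (fun a => ⟨x' i j a, (hX' i j hj.symm).1 a⟩) ⟨fun a b hab => ?_, fun y => ?_⟩)
    · have := congrArg Subtype.val hab
      simp only at this
      obtain ⟨c, -, hc⟩ := (hX' i j hj.symm).2 (x' i j a) ((hX' i j hj.symm).1 a)
      rw [hc a rfl, hc b this.symm]
    · obtain ⟨a, ha, -⟩ := (hX' i j hj.symm).2 y.1 y.2
      exact ⟨a, Subtype.ext ha⟩
  obtain ⟨e⟩ : Nonempty (F ≃+* F') := by
    have : Fintype F := Fintype.ofFinite F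
    refine ⟨FiniteField.ringEquivOfCardEq ?_⟩
    rw [← Nat.card_eq_fintype_card, ← Nat.card_eq_fintype_card, hcard]
  let x : ι → ι → F → G := fun i j a => x' i j (e a)
  have hx : SteinRel x := by
    refine ⟨?_, ?_, ?_⟩
    · intro i j hij a b
      simp only [x, map_add, hx'.add i j hij]
    · intro i j k l hij hkl hjk hil a b
      exact hx'.comm i j k l hij hkl hjk hil _ _
    · intro i j k hij hjk hik a b
      simp only [x, map_mul, hx'.br i j k hij hjk hik]
  have hmem : ∀ i j, i ≠ j → ∀ a, x i j a ∈ Y i j := fun i j hij a => (hX' i j hij).1 _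
  have hsur : ∀ i j, i ≠ j → ∀ y ∈ Y i j, ∃ a, x i j a = y := by
    intro i j hij y hy
    obtain ⟨a, ha, -⟩ := (hX' i j hij).2 y hy
    exact ⟨e.symm a, by simp only [x, RingEquiv.apply_symm_apply, ha]⟩
  have hinj : ∀ i j, i ≠ j → x i j 1 ≠ 1 := by
    intro i j hij h1
    obtain ⟨a, -, ha⟩ := (hX' i j hij).2 1 (one_mem _)
    have e1 := ha (e 1) h1
    have e2 := ha (e 0) (hx.zero hij)
    exact one_ne_zero (e.injective (e1.trans e2.symm))
  have hh : Torus.HRel x := by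
    refine hrel hx hinj fun i j hij => ?_
    obtain ⟨k, hki, hkj⟩ := h3 i j
    have hv := vec_inj hij hkj.symm hki.symm
    obtain ⟨φ, hφ, h⟩ := htr _ hv
    exact ⟨_, φ, rfl, rfl, hv, hφ, fun a b hab s => by
      rw [h a b hab]
      exact hmem _ _ (fun e => hab (hv e)) s⟩
  obtain ⟨Φ, h4, h5, h6⟩ := Hom.exists_hom hx hh (by omega)
  have hXn : ∀ i j, i ≠ j → (Xn F i j).map Φ = Y i j := by
    intro i j hij
    apply le_antisymm
    · rw [Xn, MonoidHom.map_closure, Subgroup.closure_le]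
      rintro _ ⟨_, ⟨h, t, rfl⟩, rfl⟩
      rw [h4]
      exact hmem i j hij t
    · intro y hy
      obtain ⟨a, rfl⟩ := hsur i j hij y hy
      exact ⟨SpecialLinearGroup.transvection hij a, Subgroup.subset_closure ⟨hij, a, rfl⟩, h4 i j hij a⟩
  have hst : ∀ i j, i ≠ j → (stdn F i j).map Φ = K i j := by
    intro i j hij
    rw [stdn, Subgroup.map_sup, hXn i j hij, hXn j i hij.symm, hK i j hij]
  refine ⟨Φ, h6 ?_, hst, ?_⟩
  · obtain ⟨i⟩ := hne
    obtain ⟨j, hj, -⟩ := h3 i i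
    exact ⟨i, j, hj.symm, 1, hinj i j hj.symm⟩
  · apply le_antisymm
    · rw [h5, Subgroup.closure_le]
      rintro _ ⟨i, j, hij, a, rfl⟩
      have h7 : K i j ≤ ⨆ (i : ι) (j : ι) (_ : i ≠ j), K i j :=
        le_iSup_of_le i (le_iSup_of_le j (le_iSup_of_le hij le_rfl))
      apply h7
      rw [← hK i j hij]
      exact Subgroup.mem_sup_left (hmem i j hij a)
    · refine iSup_le fun i => iSup_le fun j => iSup_le fun hij => ?_
      rw [← hst i j hij]
      exact Subgroup.map_le_range _ _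

end H

end Cfsg.Agent.CTFrame.HomFrame
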