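import Cfsg.Agent.CTFrame.Frame

/-!
# Labels of the roots and the recognition theorem
-/

set_option autoImplicit false
set_option linter.unusedSectionVars false
set_option linter.unusedVariables false

namespace Cfsg.Agent.CTFrame.Main

open Matrix Cfsg.Agent.CTFrame.SL3 Cfsg.Agent.CTFrame.Root Cfsg.Agent.CTFrame.Frame

universe u v w

variable {F : Type u} [Field F] [Finite F] {G : Type v} [Group G] {ι : Type w} {K : ι → ι → Subgroup G}
  {p : ℕ} [Fact p.Prime] [CharP F p] (hF : Frame F K) (h2 : (2 : F) ≠ 0)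

include hF h2

theorem par_self {i j : ι} (hij : i ≠ j) (h3 : ∀ i j : ι, ∃ k, k ≠ i ∧ k ≠ j) {P : Subgroup G}
    (hP : IsRoot F p K i j P) : Par P P := by
  obtain ⟨k, hki, hkj⟩ := h3 i j
  have hv := vec_inj hij hkj.symm hki.symm
  obtain ⟨φ, hφ, rfl⟩ := exists_tr hF h2 hv hP
  exact par_X φ (by decide) (by decide) (by decide) (by decide)

theorem eq_of_par_same {i j : ι} (hij : i ≠ j) (h3 : ∀ i j : ι, ∃ k, k ≠ i ∧ k ≠ j) {P Q : Subgroup G}
    (hP : IsRoot F p K i j P) (hQ : IsRoot F p K i j Q) (hPQ : Par P Q) : P = Q := by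
  obtain ⟨k, hki, hkj⟩ := h3 i j
  have hv := vec_inj hij hkj.symm hki.symm
  obtain ⟨φ, hφ, rfl⟩ := exists_tr hF h2 hv hP
  rcases Tr.root_eq hF h2 hv hφ (a := 0) (b := 1) (by decide) hQ with h | h
  · exact h.symm
  · subst h
    exact absurd hPQ (not_par_X' (c := 2) (by decide) (by decide) (by decide) φ hφ.ker)

/-- if three roots of the same pair, two of them different from the third, then these are equal -/
theorem other_eq {i j : ι} (hij : i ≠ j) (h3 : ∀ i j : ι, ∃ k, k ≠ i ∧ k ≠ j) {P Q R : Subgroup G}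
    (hP : IsRoot F p K i j P) (hQ : IsRoot F p K i j Q) (hR : IsRoot F p K i j R) (h1 : P ≠ R) (h4 : Q ≠ R) :
    P = Q := by
  obtain ⟨k, hki, hkj⟩ := h3 i j
  have hv := vec_inj hij hkj.symm hki.symm
  obtain ⟨φ, hφ, rfl⟩ := exists_tr hF h2 hv hR
  have e1 := (Tr.root_eq hF h2 hv hφ (a := 0) (b := 1) (by decide) hP).resolve_left h1
  have e2 := (Tr.root_eq hF h2 hv hφ (a := 0) (b := 1) (by decide) hQ).resolve_left h4
  rw [e1, e2]

theorem exists_root {i j : ι} (hij : i ≠ j) (h3 : ∀ i j : ι, ∃ k, k ≠ i ∧ k ≠ j) :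
    ∃ P, IsRoot F p K i j P := by
  obtain ⟨k, hki, hkj⟩ := h3 i j
  have hv := vec_inj hij hkj.symm hki.symm
  obtain ⟨φ, hφ⟩ := hF.triple _ hv
  exact ⟨_, Tr.root hF h2 hv hφ (a := 0) (b := 1) (by decide)⟩

theorem exists_other {i j : ι} (hij : i ≠ j) (h3 : ∀ i j : ι, ∃ k, k ≠ i ∧ k ≠ j) {P : Subgroup G}
    (hP : IsRoot F p K i j P) : ∃ Q, IsRoot F p K i j Q ∧ Q ≠ P := by
  obtain ⟨k, hki, hkj⟩ := h3 i j
  have hv := vec_inj hij hkj.symm hki.symm
  obtain ⟨φ, hφ, rfl⟩ := exists_tr hF h2 hv hP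
  refine ⟨_, Tr.root' hF h2 hv hφ (a := 0) (b := 1) (by decide), fun h => ?_⟩
  have h5 := not_par_X' (a := 0) (b := 1) (c := 2) (by decide) (by decide) (by decide) φ hφ.ker
  rw [h] at h5
  exact h5 (par_X φ (by decide) (by decide) (by decide) (by decide))

theorem exists_par {i j k : ι} (hij : i ≠ j) (hjk : j ≠ k) (hik : i ≠ k) {P : Subgroup G}
    (hP : IsRoot F p K i j P) : ∃ Q, IsRoot F p K i k Q ∧ Par P Q := by
  have hv := vec_inj hij hjk hik
  obtain ⟨φ, hφ, rfl⟩ := exists_tr hF h2 hv hP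
  exact ⟨_, Tr.root hF h2 hv hφ (a := 0) (b := 2) (by decide),
    par_X φ (by decide) (by decide) (by decide) (by decide)⟩

/-- in an oriented triple -/
theorem eq_of_par {φ : S3 F →* G} {v : Fin 3 → ι} (hv : Function.Injective v) (hφ : Tr K φ v) {a b c : Fin 3}
    (hab : a ≠ b) (hbc : b ≠ c) (hac : a ≠ c) {Q : Subgroup G} (hQ : IsRoot F p K (v a) (v c) Q)
    (hpar : Par ((X a b).map φ) Q) : Q = (X a c).map φ := by
  rcases Tr.root_eq hF h2 hv hφ hac hQ with h | h
  · exact h
  · subst h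
    exact absurd hpar.symm (not_par_X hac.symm hab hbc.symm φ hφ.ker)

theorem par_unique {i j k : ι} (hij : i ≠ j) (hjk : j ≠ k) (hik : i ≠ k) {P Q Q' : Subgroup G}
    (hP : IsRoot F p K i j P) (hQ : IsRoot F p K i k Q) (hQ' : IsRoot F p K i k Q') (h4 : Par P Q) (h5 : Par P Q') :
    Q = Q' := by
  have hv := vec_inj hij hjk hik
  obtain ⟨φ, hφ, rfl⟩ := exists_tr hF h2 hv hP
  rw [eq_of_par hF h2 hv hφ (a := 0) (b := 1) (c := 2) (by decide) (by decide) (by decide) hQ h4,
    eq_of_par hF h2 hv hφ (a := 0) (b := 1) (c := 2) (by decide) (by decide) (by decide) hQ' h5]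

/-- commuting is an equivalence relation on the roots at a point -/
theorem star (h3 : ∀ i j : ι, ∃ k, k ≠ i ∧ k ≠ j) {i a b c : ι} (hia : i ≠ a) (hib : i ≠ b) (hic : i ≠ c)
    {P Q R : Subgroup G} (hP : IsRoot F p K i a P) (hQ : IsRoot F p K i b Q) (hR : IsRoot F p K i c R)
    (hPQ : Par P Q) (hPR : Par P R) : Par Q R := by
  by_cases hab : a = b
  · subst hab
    rw [← eq_of_par_same hF h2 hia h3 hP hQ hPQ]
    exact hPR
  by_cases hac : a = c
  · subst hac
    rw [← eq_of_par_same hF h2 hia h3 hP hR hPR]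
    exact hPQ.symm
  by_cases hbc : b = c
  · subst hbc
    rw [par_unique hF h2 hia hab hib hP hQ hR hPQ hPR]
    exact par_self hF h2 hib h3 hR
  have hv := vec_inj hia hab hib
  obtain ⟨φ, hφ, rfl⟩ := exists_tr hF h2 hv hP
  have e := eq_of_par hF h2 hv hφ (a := 0) (b := 1) (c := 2) (by decide) (by decide) (by decide) hQ hPQ
  subst e
  have h12 : (1 : Fin 3) ≠ 2 := by decide
  have hw : φ (wl h12) ∈ K a b := by
    have := hφ.std 1 2 h12
    rw [show K a b = K ((![i, a, b] : Fin 3 → ι) 1) ((![i, a, b] : Fin 3 → ι) 2) from rfl, ← this]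
    exact ⟨_, wl_mem h12, rfl⟩
  rintro _ ⟨y, hy, rfl⟩ r hr
  obtain ⟨t, rfl⟩ := (mem_X (a := 0) (b := 2) (by decide)).1 hy
  rw [← wl_conj (a := 0) (b := 1) (c := 2) (by decide) h12 (by decide) t, map_mul, map_mul, map_inv]
  have h4 : φ (wl h12) * r = r * φ (wl h12) :=
    hF.comm a b i c hab hic (Ne.symm hia) hac (Ne.symm hib) hbc _ hw _ (hR.1 hr)
  have h5 : φ (SpecialLinearGroup.transvection (by decide : (0 : Fin 3) ≠ 1) t) * r =
      r * φ (SpecialLinearGroup.transvection (by decide : (0 : Fin 3) ≠ 1) t) :=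
    hPR _ ⟨_, tr_mem _ t, rfl⟩ r hr
  have c1 : Commute (φ (wl h12)) r := h4
  have c2 : Commute (φ (SpecialLinearGroup.transvection (by decide : (0 : Fin 3) ≠ 1) t)) r := h5
  exact ((c1.inv_left.mul_left c2).mul_left c1).eq

/-- labelling of the roots -/
theorem exists_label (h3 : ∀ i j : ι, ∃ k, k ≠ i ∧ k ≠ j) [Nonempty ι] : ∃ Y : ι → ι → Subgroup G,
    (∀ i j, i ≠ j → IsRoot F p K i j (Y i j)) ∧ (∀ i j k, i ≠ j → i ≠ k → Par (Y i j) (Y i k)) ∧
    (∀ i j, i ≠ j → Y i j ≠ Y j i) := by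
  classical
  obtain ⟨o⟩ := ‹Nonempty ι›
  obtain ⟨q, hqo, -⟩ := h3 o o
  obtain ⟨P0, hP0⟩ := exists_root (p := p) hF h2 (Ne.symm hqo) h3
  have hA : ∀ j, ∃ Q, o ≠ j → IsRoot F p K o j Q ∧ Par P0 Q := by
    intro j
    by_cases hoj : o = j
    · exact ⟨⊥, fun h => absurd hoj h⟩
    by_cases hqj : q = j
    · subst hqj
      exact ⟨P0, fun _ => ⟨hP0, par_self hF h2 hoj h3 hP0⟩⟩
    · obtain ⟨Q, hQ1, hQ2⟩ := exists_par hF h2 (Ne.symm hqo) hqj hoj hP0
      exact ⟨Q, fun _ => ⟨hQ1, hQ2⟩⟩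
  choose A hA using hA
  have hB : ∀ j, ∃ Q, o ≠ j → IsRoot F p K o j Q ∧ Q ≠ A j := by
    intro j
    by_cases hoj : o = j
    · exact ⟨⊥, fun h => absurd hoj h⟩
    obtain ⟨Q, hQ1, hQ2⟩ := exists_other hF h2 hoj h3 (hA j hoj).1
    exact ⟨Q, fun _ => ⟨hQ1, hQ2⟩⟩
  choose B hB using hB
  have hC : ∀ j k, ∃ Q, o ≠ j → o ≠ k → j ≠ k → IsRoot F p K j k Q ∧ Par (B j) Q := by
    intro j k
    by_cases hoj : o = j
    · exact ⟨⊥, fun h => absurd hoj h⟩
    by_cases hok : o = k
    · exact ⟨⊥, fun _ h => absurd hok h⟩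
    by_cases hjk : j = k
    · exact ⟨⊥, fun _ _ h => absurd hjk h⟩
    obtain ⟨Q, hQ1, hQ2⟩ := exists_par hF h2 (Ne.symm hoj) hok hjk ((hB j hoj).1.symm hF.symm)
    exact ⟨Q, fun _ _ _ => ⟨hQ1, hQ2⟩⟩
  choose C hC using hC
  have hAA : ∀ j k, o ≠ j → o ≠ k → Par (A j) (A k) := by
    intro j k hj hk
    exact star hF h2 h3 (Ne.symm hqo) hj hk hP0 (hA j hj).1 (hA k hk).1 (hA j hj).2 (hA k hk).2
  have hBC : ∀ j k, o ≠ j → o ≠ k → j ≠ k → C j k ≠ C k j := by
    intro j k hj hk hjk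
    have hv := vec_inj hj hjk hk
    obtain ⟨φ, hφ, hφA⟩ := exists_tr hF h2 hv (hA j hj).1
    have eA : A k = (X 0 2).map φ :=
      eq_of_par hF h2 hv hφ (a := 0) (b := 1) (c := 2) (by decide) (by decide) (by decide) (hA k hk).1
        (by rw [hφA]; exact hAA j k hj hk)
    have eBj : B j = (X 1 0).map φ := by
      rcases Tr.root_eq hF h2 hv hφ (a := 0) (b := 1) (by decide) (hB j hj).1 with h | h
      · exact absurd (h.trans hφA) (hB j hj).2
      · exact h
    have eBk : B k = (X 2 0).map φ := by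
      rcases Tr.root_eq hF h2 hv hφ (a := 0) (b := 2) (by decide) (hB k hk).1 with h | h
      · exact absurd (h.trans eA.symm) (hB k hk).2
      · exact h
    have eC : C j k = (X 1 2).map φ :=
      eq_of_par hF h2 hv hφ (a := 1) (b := 0) (c := 2) (by decide) (by decide) (by decide) (hC j k hj hk hjk).1
        (by rw [← eBj]; exact (hC j k hj hk hjk).2)
    have eC' : C k j = (X 2 1).map φ :=
      eq_of_par hF h2 hv hφ (a := 2) (b := 0) (c := 1) (by decide) (by decide) (by decide)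
        (hC k j hk hj hjk.symm).1 (by rw [← eBk]; exact (hC k j hk hj hjk.symm).2)
    rw [eC, eC']
    intro h
    have h5 := not_par_X' (a := 1) (b := 2) (c := 0) (by decide) (by decide) (by decide) φ hφ.ker
    rw [← h] at h5
    exact h5 (par_X φ (by decide) (by decide) (by decide) (by decide))
  refine ⟨fun i j => if i = o then A j else if j = o then B i else C i j, ?_, ?_, ?_⟩
  · intro i j hij
    by_cases hi : i = o
    · subst hi
      simp only [if_true]
      exact (hA j hij).1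
    by_cases hj : j = o
    · subst hj
      simp only [if_neg hi, if_true]
      exact (hB i (Ne.symm hi)).1.symm hF.symm
    · simp only [if_neg hi, if_neg hj]
      exact (hC i j (Ne.symm hi) (Ne.symm hj) hij).1
  · intro i j k hij hik
    by_cases hi : i = o
    · subst hi
      simp only [if_true]
      exact hAA j k hij hik
    · simp only [if_neg hi]
      have hBi := (hB i (Ne.symm hi)).1.symm hF.symm
      have key : ∀ l, i ≠ l → IsRoot F p K i l (if l = o then B i else C i l) ∧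
          Par (B i) (if l = o then B i else C i l) := by
        intro l hil
        by_cases hl : l = o
        · subst hl
          rw [if_pos rfl]
          exact ⟨hBi, par_self hF h2 hil h3 hBi⟩
        · rw [if_neg hl]
          exact hC i l (Ne.symm hi) (Ne.symm hl) hil
      exact star hF h2 h3 hi hij hik hBi (key j hij).1 (key k hik).1 (key j hij).2 (key k hik).2
  · intro i j hij
    by_cases hi : i = o
    · subst hi
      simp only [if_true, if_neg (Ne.symm hij)]
      exact fun h => (hB j hij).2 h.symm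
    by_cases hj : j = o
    · subst hj
      simp only [if_true, if_neg hi]
      exact (hB i (Ne.symm hi)).2
    · simp only [if_neg hi, if_neg hj]
      exact hBC i j (Ne.symm hi) (Ne.symm hj) hij

/-- labelled roots: every triple is parametrised by `SL₃` -/
theorem exists_roots (h3 : ∀ i j : ι, ∃ k, k ≠ i ∧ k ≠ j) [Nonempty ι] : ∃ Y : ι → ι → Subgroup G,
    (∀ i j, i ≠ j → IsRoot F p K i j (Y i j)) ∧
    ∀ v : Fin 3 → ι, Function.Injective v → ∃ φ : S3 F →* G, Tr K φ v ∧
      ∀ a b, a ≠ b → (X a b).map φ = Y (v a) (v b) := by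
  obtain ⟨Y, hY, hrow, hne⟩ := exists_label (p := p) hF h2 h3
  refine ⟨Y, hY, fun v hv => ?_⟩
  have d : ∀ {a b : Fin 3}, a ≠ b → v a ≠ v b := fun h e => h (hv e)
  obtain ⟨φ, hφ, h01⟩ := exists_tr hF h2 hv (hY (v 0) (v 1) (d (by decide)))
  refine ⟨φ, hφ, ?_⟩
  have h02 : Y (v 0) (v 2) = (X 0 2).map φ :=
    eq_of_par hF h2 hv hφ (a := 0) (b := 1) (c := 2) (by decide) (by decide) (by decide)
      (hY _ _ (d (by decide))) (by rw [h01]; exact hrow _ _ _ (d (by decide)) (d (by decide)))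
  have h10 : Y (v 1) (v 0) = (X 1 0).map φ := by
    rcases Tr.root_eq hF h2 hv hφ (a := 1) (b := 0) (by decide) (hY _ _ (d (by decide))) with h | h
    · exact h
    · exact absurd (h.trans h01) (hne _ _ (d (by decide)))
  have h20 : Y (v 2) (v 0) = (X 2 0).map φ := by
    rcases Tr.root_eq hF h2 hv hφ (a := 2) (b := 0) (by decide) (hY _ _ (d (by decide))) with h | h
    · exact h
    · exact absurd (h.trans h02.symm) (hne _ _ (d (by decide)))
  have h12 : Y (v 1) (v 2) = (X 1 2).map φ :=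
    eq_of_par hF h2 hv hφ (a := 1) (b := 0) (c := 2) (by decide) (by decide) (by decide)
      (hY _ _ (d (by decide))) (by rw [← h10]; exact hrow _ _ _ (d (by decide)) (d (by decide)))
  have h21 : Y (v 2) (v 1) = (X 2 1).map φ :=
    eq_of_par hF h2 hv hφ (a := 2) (b := 0) (c := 1) (by decide) (by decide) (by decide)
      (hY _ _ (d (by decide))) (by rw [← h20]; exact hrow _ _ _ (d (by decide)) (d (by decide)))
  intro a b hab
  fin_cases a <;> fin_cases b <;> first | exact absurd rfl hab | skip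
  · exact h01
  · exact h02.symm
  · exact h10.symm
  · exact h12.symm
  · exact h20.symm
  · exact h21.symm

open scoped commutatorElement in
/-- **the frame is `A`-graded** -/
theorem exists_graded (h3 : ∀ i j : ι, ∃ k, k ≠ i ∧ k ≠ j) [Nonempty ι] : ∃ Y : ι → ι → Subgroup G,
    AGraded.Graded Y ∧ (∀ i j, i ≠ j → Nat.card (Y i j) = Nat.card F ∧ IsPGroup p (Y i j)) ∧
      (∀ i j, i ≠ j → Y i j ⊔ Y j i = K i j) ∧
      ∀ v : Fin 3 → ι, Function.Injective v → ∃ φ : S3 F →* G, φ.ker ≤ Subgroup.center (S3 F) ∧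
        ∀ a b, a ≠ b → (X a b).map φ = Y (v a) (v b) := by
  obtain ⟨Y, hY, htr⟩ := exists_roots (p := p) hF h2 h3
  refine ⟨Y, ⟨?_, ?_, ?_, ?_⟩, fun i j hij => ⟨(hY i j hij).2.1, (hY i j hij).2.2.1⟩, ?_, ?_⟩
  · intro i j k l hij hkl hjk hil
    by_cases hik : i = k
    · subst hik
      by_cases hjl : j = l
      · subst hjl
        exact par_self hF h2 hij h3 (hY i j hij)
      · obtain ⟨φ, hφ, h⟩ := htr _ (vec_inj hij hjl hil)
        have e1 := h 0 1 (by decide)
        have e2 := h 0 2 (by decide)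
        change _ = Y i j at e1
        change _ = Y i l at e2
        rw [← e1, ← e2]
        exact par_X φ (by decide) (by decide) (by decide) (by decide)
    · by_cases hjl : j = l
      · subst hjl
        obtain ⟨φ, hφ, h⟩ := htr _ (vec_inj hij (Ne.symm hkl) hik)
        have e1 := h 0 1 (by decide)
        have e2 := h 2 1 (by decide)
        change _ = Y i j at e1
        change _ = Y k j at e2
        rw [← e1, ← e2]
        exact par_X φ (by decide) (by decide) (by decide) (by decide)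
      · intro x hx y hy
        exact hF.comm i j k l hij hkl hik hil hjk hjl x ((hY i j hij).1 hx) y ((hY k l hkl).1 hy)
  · intro i j k hij hjk hik a ha b hb
    obtain ⟨φ, hφ, h⟩ := htr _ (vec_inj hij hjk hik)
    have e1 := h 0 1 (by decide)
    have e2 := h 1 2 (by decide)
    have e3 := h 0 2 (by decide)
    change _ = Y i j at e1
    change _ = Y j k at e2
    change _ = Y i k at e3
    rw [← e1] at ha
    rw [← e2] at hb
    rw [← e3]
    obtain ⟨x, hx, rfl⟩ := ha
    obtain ⟨y, hy, rfl⟩ := hb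
    obtain ⟨s, rfl⟩ := (mem_X (a := 0) (b := 1) (by decide)).1 hx
    obtain ⟨t, rfl⟩ := (mem_X (a := 1) (b := 2) (by decide)).1 hy
    rw [← map_commutatorElement, tr_br (by decide) (by decide) (by decide)]
    exact ⟨_, tr_mem _ _, rfl⟩
  · intro i j k hij hjk hik a ha b hb ha1 hb1 hab
    obtain ⟨φ, hφ, h⟩ := htr _ (vec_inj hij hjk hik)
    have e1 := h 0 1 (by decide)
    have e2 := h 1 2 (by decide)
    change _ = Y i j at e1
    change _ = Y j k at e2
    rw [← e1] at ha
    rw [← e2] at hb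
    obtain ⟨x, hx, rfl⟩ := ha
    obtain ⟨y, hy, rfl⟩ := hb
    obtain ⟨s, rfl⟩ := (mem_X (a := 0) (b := 1) (by decide)).1 hx
    obtain ⟨t, rfl⟩ := (mem_X (a := 1) (b := 2) (by decide)).1 hy
    have h02 : (0 : Fin 3) ≠ 2 := by decide
    rw [← map_commutatorElement, tr_br (by decide) (by decide) h02] at hab
    have h5 := eq_one_of_map (a := 0) (b := 2) (c := 1) h02 (by decide) (by decide) φ hφ.ker
      (X_le_Blk h02 (by decide) (by decide) (tr_mem h02 _)) hab
    rw [← tr_zero h02] at h5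
    rcases mul_eq_zero.1 (tr_inj h02 h5) with h6 | h6
    · apply ha1
      rw [h6, tr_zero, map_one]
    · apply hb1
      rw [h6, tr_zero, map_one]
  · intro i j hij
    have h5 : 1 < Nat.card (Y i j) := by
      rw [(hY i j hij).2.1]
      exact Finite.one_lt_card
    have : Finite (Y i j) := Nat.finite_of_card_ne_zero (by omega)
    obtain ⟨x, hx⟩ := (Subgroup.one_lt_card_iff_ne_bot _).1 h5 |> (Subgroup.ne_bot_iff_exists_ne_one).1
    exact ⟨x.1, x.2, fun h => hx (Subtype.ext h)⟩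
  · intro i j hij
    obtain ⟨k, hki, hkj⟩ := h3 i j
    obtain ⟨φ, hφ, h⟩ := htr _ (vec_inj hij hkj.symm hki.symm)
    have e1 := h 0 1 (by decide)
    have e2 := h 1 0 (by decide)
    have e3 := hφ.std 0 1 (by decide)
    change _ = Y i j at e1
    change _ = Y j i at e2
    change _ = K i j at e3
    rw [← e1, ← e2, ← e3, SL3.std, Subgroup.map_sup]
  · intro v hv
    obtain ⟨φ, hφ, h⟩ := htr v hv
    exact ⟨φ, hφ.ker, h⟩

omit h2 in
/-- **Recognition of `PSLₙ(q)`, `n ≥ 4`, `q` odd, from the frame.** -/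
theorem exists_psl [Finite G] [Fintype ι] [DecidableEq ι] (hι : 4 ≤ Fintype.card ι) [IsSimpleGroup G]
    (hodd : Odd (Nat.card F)) (hgen : ∀ H : Subgroup G, (∀ i j, i ≠ j → K i j ≤ H) → H = ⊤) :
    ∃ (F' : Type) (_ : Field F') (_ : Fintype F'), Fintype.card F' = Nat.card F ∧
      Nonempty (G ≃* Matrix.ProjectiveSpecialLinearGroup ι F') := by
  classical
  have h3 : ∀ i j : ι, ∃ k, k ≠ i ∧ k ≠ j := by
    intro i j
    obtain ⟨k, hk⟩ : ∃ k, k ∉ ({i, j} : Finset ι) := by
      by_contra hcon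
      push Not at hcon
      have h1 : (Finset.univ : Finset ι) ⊆ {i, j} := fun k _ => hcon k
      have h4 := (Finset.card_le_card h1).trans (Finset.card_le_two)
      rw [Finset.card_univ] at h4
      omega
    exact ⟨k, fun h => hk (by simp [h]), fun h => hk (by simp [h])⟩
  have hne : Nonempty ι := Fintype.card_pos_iff.1 (by omega)
  have h2 : (2 : F) ≠ 0 := by
    intro h
    have : Fintype F := Fintype.ofFinite F
    have h5 : ringChar F = 2 := by
      have h6 : ringChar F ∣ 2 := by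
        rw [← ringChar.spec]
        exact_mod_cast h
      rcases (Nat.dvd_prime Nat.prime_two).1 h6 with h7 | h7
      · have := CharP.char_ne_one F (ringChar F)
        exact absurd h7 this
      · exact h7
    have h8 := FiniteField.even_card_of_char_two h5
    rw [Nat.card_eq_fintype_card] at hodd
    rw [Nat.odd_iff] at hodd
    omega
  have : Fact (ringChar F).Prime := ⟨CharP.char_is_prime F _⟩
  obtain ⟨Y, hg, hc, hK, -⟩ := exists_graded (p := ringChar F) hF h2 h3
  obtain ⟨F', i1, i2, h4, -, h5⟩ := hg.exists_psl hι (fun H hH => hgen H fun i j hij => by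
    rw [← hK i j hij]
    exact sup_le (hH i j hij) (hH j i hij.symm))
  refine ⟨F', i1, i2, ?_, h5⟩
  obtain ⟨i⟩ := hne
  obtain ⟨j, hj, -⟩ := h3 i i
  rw [h4 i j hj.symm, (hc i j hj.symm).1]

omit hF h2 in
/-- It suffices to have one ordering of every triple. -/
theorem of_perm (symm : ∀ i j, K i j = K j i)
    (comm : ∀ i j k l, i ≠ j → k ≠ l → i ≠ k → i ≠ l → j ≠ k → j ≠ l → Par (K i j) (K k l))
    (triple : ∀ v : Fin 3 → ι, Function.Injective v → ∃ σ : Equiv.Perm (Fin 3), ∃ φ : S3 F →* G, Tr K φ (v ∘ σ)) :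
    Frame F K where
  symm := symm
  comm := comm
  triple v hv := by
    obtain ⟨σ, φ, hφ⟩ := triple v hv
    have := hφ.perm σ
    rw [Function.comp_assoc, Equiv.self_comp_symm, Function.comp_id] at this
    exact ⟨_, this⟩

end Cfsg.Agent.CTFrame.Main
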