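import Cfsg.Agent.CTFrame.SL3

/-!
# Roots in images of `SL (Fin 3) F`
-/

set_option autoImplicit false
set_option linter.unusedSectionVars false
set_option linter.unusedVariables false
set_option linter.unusedSimpArgs false

namespace Cfsg.Agent.CTFrame.Root

open Matrix Cfsg.Agent.CTFrame.SL3

universe u v

variable {F : Type u} [Field F] {G : Type v} [Group G]

/-- a group is not the union of two proper subgroups -/
theorem le_or_le {Γ : Type*} [Group Γ] {Y A B : Subgroup Γ} (h : ∀ y ∈ Y, y ∈ A ∨ y ∈ B) : Y ≤ A ∨ Y ≤ B := by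
  rw [← SubgroupClass.subset_union]
  exact h

section Triple

variable {a b c : Fin 3} (hab : a ≠ b) (hbc : b ≠ c) (hac : a ≠ c)

include hab hbc hac

omit hab hbc hac in
theorem trace_of_pow {p : ℕ} [Fact p.Prime] [CharP F p] {y : S3 F} {n : ℕ} (hy : y ^ p ^ n = 1) :
    Matrix.trace (y.1 : Matrix (Fin 3) (Fin 3) F) = 3 := by
  have h1 : ((y.1 : Matrix (Fin 3) (Fin 3) F)) ^ p ^ n = 1 := congrArg Subtype.val hy
  have h2 : IsNilpotent ((y.1 : Matrix (Fin 3) (Fin 3) F) - 1) := by
    refine ⟨p ^ n, ?_⟩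
    rw [sub_pow_char_pow_of_commute _ _ (Commute.one_right _), h1, one_pow, sub_self]
  have h3 := (Matrix.isNilpotent_trace_of_isNilpotent h2).eq_zero
  rw [Matrix.trace_sub, Matrix.trace_one, Fintype.card_fin, sub_eq_zero] at h3
  rw [h3]
  norm_num

theorem unip_or (h2 : (2 : F) ≠ 0) {y : S3 F} (hy : y ∈ (Blk c : Subgroup (S3 F)))
    (h3 : Matrix.trace (y.1 : Matrix (Fin 3) (Fin 3) F) = 3)
    (h4 : Matrix.trace ((y * (dg a * y * (dg a)⁻¹) : S3 F).1 : Matrix (Fin 3) (Fin 3) F) = 3) :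
    y ∈ (X a b : Subgroup (S3 F)) ∨ y ∈ (X b a : Subgroup (S3 F)) := by
  obtain ⟨q1, q2, q3, q4, q5, hd⟩ := blk_entries hab hbc hac hy
  rw [trace3 hab hbc hac] at h3 h4
  change en y a a + en y b b + en y c c = 3 at h3
  change en (y * (dg a * y * (dg a)⁻¹)) a a + en (y * (dg a * y * (dg a)⁻¹)) b b +
    en (y * (dg a * y * (dg a)⁻¹)) c c = 3 at h4
  simp only [en_mul y, sum3 hab hbc hac, dg_conj, if_true, if_neg hab.symm, if_neg hac.symm, q1, q2, q3, q4, q5]
    at h4
  rw [q1] at h3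
  have e1 : en y a a + en y b b = 2 := by linear_combination h3
  have e2 : en y a b * en y b a = 0 := by
    have : (2 * 2) * (en y a b * en y b a) = 0 := by
      linear_combination -h4 + (en y a a + en y b b + 2) * e1 - 2 * hd
    exact (mul_eq_zero.1 this).resolve_left (mul_ne_zero h2 h2)
  have e3 : (en y a a - 1) * (en y a a - 1) = 0 := by
    linear_combination en y a a * e1 - hd - e2
  have e4 : en y a a = 1 := by
    have := mul_self_eq_zero.1 e3
    linear_combination this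
  have e5 : en y b b = 1 := by linear_combination e1 - e4
  rcases mul_eq_zero.1 e2 with h | h
  · right
    exact mem_X_of_entries hab.symm hac hbc hy e5 h e4
  · left
    exact mem_X_of_entries hab hbc hac hy e4 h e5

/-- centre meets the block trivially -/
theorem eq_one_of_center {x : S3 F} (hx : x ∈ (Blk c : Subgroup (S3 F))) (hz : x ∈ Subgroup.center (S3 F)) :
    x = 1 := by
  obtain ⟨q1, q2, q3, q4, q5, hd⟩ := blk_entries hab hbc hac hx
  have h1 := Subgroup.mem_center_iff.1 hz (SpecialLinearGroup.transvection hac 1)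
  have h2 := Subgroup.mem_center_iff.1 hz (SpecialLinearGroup.transvection hbc 1)
  have t1 := fun i k => tr_coe (F := F) hac 1 i k
  have t2 := fun i k => tr_coe (F := F) hbc 1 i k
  have a1 := congrArg (fun m : S3 F => en m a c) h1
  have a2 := congrArg (fun m : S3 F => en m b c) h1
  have a3 := congrArg (fun m : S3 F => en m a c) h2
  have a4 := congrArg (fun m : S3 F => en m b c) h2
  simp only [en_mul, sum3 hab hbc hac, t1, t2, q1, q2, q3, q4, q5] at a1 a2 a3 a4
  simp [hab, hbc, hac, Ne.symm hab, Ne.symm hbc, Ne.symm hac] at a1 a2 a3 a4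
  refine blk_ext hab hbc hac hx (one_mem _) ?_ ?_ ?_ ?_
  · rw [en_one, if_pos rfl]; exact a1.symm
  · rw [en_one, if_neg hab]; exact a3.symm
  · rw [en_one, if_neg hab.symm]; exact a2.symm
  · rw [en_one, if_pos rfl]; exact a4.symm

/-! ### homomorphisms with central kernel -/

variable (φ : S3 F →* G)

theorem eq_one_of_map (hφ : φ.ker ≤ Subgroup.center (S3 F)) {x : S3 F} (hx : x ∈ (Blk c : Subgroup (S3 F)))
    (h1 : φ x = 1) : x = 1 :=
  eq_one_of_center hab hbc hac hx (hφ h1)

theorem inj_on (hφ : φ.ker ≤ Subgroup.center (S3 F)) {x y : S3 F} (hx : x ∈ (Blk c : Subgroup (S3 F)))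
    (hy : y ∈ (Blk c : Subgroup (S3 F))) (h1 : φ x = φ y) : x = y := by
  have := eq_one_of_map hab hbc hac φ hφ (mul_mem hx (inv_mem hy)) (by rw [map_mul, map_inv, h1, mul_inv_cancel])
  exact mul_inv_eq_one.1 this

/-- the two roots -/
theorem root_le {p : ℕ} [Fact p.Prime] [CharP F p] (h2 : (2 : F) ≠ 0) (hφ : φ.ker ≤ Subgroup.center (S3 F))
    {P : Subgroup G} (hP : IsPGroup p P) (hle : P ≤ (std a b).map φ) (hn : ∀ x ∈ P, φ (dg a) * x * (φ (dg a))⁻¹ ∈ P) :
    P ≤ (X a b).map φ ∨ P ≤ (X b a).map φ := by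
  have key : ∀ y ∈ (std a b : Subgroup (S3 F)), φ y ∈ P → Matrix.trace (y.1 : Matrix (Fin 3) (Fin 3) F) = 3 := by
    intro y hy hyP
    obtain ⟨n, hn⟩ := hP ⟨φ y, hyP⟩
    have h1 : φ y ^ p ^ n = 1 := congrArg Subtype.val hn
    rw [← map_pow] at h1
    exact trace_of_pow (eq_one_of_map hab hbc hac φ hφ (pow_mem (std_le_Blk hab hbc hac hy) _) h1)
  refine le_or_le fun z hz => ?_
  obtain ⟨y, hy, rfl⟩ := hle hz
  have hy' : y ∈ (std a b : Subgroup (S3 F)) := hy
  have h5 : dg a * y * (dg a)⁻¹ ∈ (std a b : Subgroup (S3 F)) := dg_conj_std a hab hy'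
  have h6 : φ (y * (dg a * y * (dg a)⁻¹)) ∈ P := by
    rw [map_mul, map_mul, map_mul, map_inv]
    exact mul_mem hz (hn _ hz)
  rcases unip_or hab hbc hac h2 (std_le_Blk hab hbc hac hy') (key y hy' hz) (key _ (mul_mem hy' h5) h6) with h | h
  · exact Or.inl ⟨y, h, rfl⟩
  · exact Or.inr ⟨y, h, rfl⟩

theorem card_map_X (hφ : φ.ker ≤ Subgroup.center (S3 F)) : Nat.card ((X a b).map φ : Subgroup G) = Nat.card F := by
  symm
  refine Nat.card_congr (Equiv.ofBijective
    (fun t => ⟨φ (SpecialLinearGroup.transvection hab t), ⟨_, tr_mem hab t, rfl⟩⟩) ⟨fun s t hst => ?_, ?_⟩)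
  · have h1 := congrArg Subtype.val hst
    simp only at h1
    exact tr_inj hab (inj_on hab hbc hac φ hφ (X_le_Blk hab hbc hac (tr_mem hab s))
      (X_le_Blk hab hbc hac (tr_mem hab t)) h1)
  · rintro ⟨_, x, hx, rfl⟩
    obtain ⟨t, rfl⟩ := (mem_X hab).1 hx
    exact ⟨t, rfl⟩

theorem root_eq [Finite F] {p : ℕ} [Fact p.Prime] [CharP F p] (h2 : (2 : F) ≠ 0)
    (hφ : φ.ker ≤ Subgroup.center (S3 F))
    {P : Subgroup G} (hP : IsPGroup p P) (hle : P ≤ (std a b).map φ) (hn : ∀ x ∈ P, φ (dg a) * x * (φ (dg a))⁻¹ ∈ P)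
    (hc : Nat.card P = Nat.card F) : P = (X a b).map φ ∨ P = (X b a).map φ := by
  have hfin : ∀ {a b : Fin 3}, Finite ((X a b : Subgroup (S3 F)).map φ : Subgroup G) := by
    intro a b
    have : Finite (S3 F) := inferInstance
    have : Finite ((X a b : Subgroup (S3 F)) : Set (S3 F)) := inferInstance
    exact Set.Finite.to_subtype (Set.toFinite ((φ : S3 F → G) '' (X a b : Subgroup (S3 F))))
  rcases root_le hab hbc hac φ h2 hφ hP hle hn with h | h
  · left
    have := hfin (a := a) (b := b)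
    exact Subgroup.eq_of_le_of_card_ge h (by rw [card_map_X hab hbc hac φ hφ, hc])
  · right
    have := hfin (a := b) (b := a)
    exact Subgroup.eq_of_le_of_card_ge h (by rw [card_map_X hab.symm hac hbc φ hφ, hc])

omit hbc hac in
theorem pgroup_X {p : ℕ} [Fact p.Prime] [CharP F p] : IsPGroup p ((X a b).map φ : Subgroup G) := by
  rintro ⟨_, x, hx, rfl⟩
  obtain ⟨t, rfl⟩ := (mem_X hab).1 hx
  refine ⟨1, ?_⟩
  apply Subtype.ext
  show φ (SpecialLinearGroup.transvection hab t) ^ p ^ 1 = 1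
  rw [pow_one, ← map_pow]
  have h1 : ∀ n : ℕ, (SpecialLinearGroup.transvection hab t : S3 F) ^ n =
      SpecialLinearGroup.transvection hab ((n : F) * t) := by
    intro n
    induction n with
    | zero => rw [pow_zero, Nat.cast_zero, zero_mul, tr_zero]
    | succ n ih => rw [pow_succ, ih, ← tr_add, Nat.cast_succ, add_mul, one_mul]
  rw [h1, CharP.cast_eq_zero, zero_mul, tr_zero, map_one]

/-! ### commuting relations -/

omit hab hbc hac in
/-- two subgroups commute elementwise -/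
def Par (P Q : Subgroup G) : Prop := ∀ x ∈ P, ∀ y ∈ Q, x * y = y * x

omit hab hbc hac in
theorem Par.symm {P Q : Subgroup G} (h : Par P Q) : Par Q P := fun x hx y hy => (h y hy x hx).symm

omit hab hbc hac in
theorem tr_comm {i j k l : Fin 3} (hij : i ≠ j) (hkl : k ≠ l) (hjk : j ≠ k) (hil : i ≠ l) (s t : F) :
    (SpecialLinearGroup.transvection hij s : S3 F) * SpecialLinearGroup.transvection hkl t =
      SpecialLinearGroup.transvection hkl t * SpecialLinearGroup.transvection hij s := by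
  apply Subtype.ext
  show ((1 : Matrix (Fin 3) (Fin 3) F) + Matrix.single i j s) * (1 + Matrix.single k l t) =
    (1 + Matrix.single k l t) * (1 + Matrix.single i j s)
  rw [mul_add, add_mul, add_mul, mul_add, add_mul, add_mul,
    Matrix.single_mul_single_of_ne s i j k hjk t, Matrix.single_mul_single_of_ne t k l i hil.symm s]
  simp only [mul_one, one_mul, add_zero]
  abel

omit hab hbc hac in
theorem par_X {i j k l : Fin 3} (hij : i ≠ j) (hkl : k ≠ l) (hjk : j ≠ k) (hil : i ≠ l) :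
    Par ((X i j).map φ) ((X k l).map φ) := by
  rintro _ ⟨x, hx, rfl⟩ _ ⟨y, hy, rfl⟩
  obtain ⟨s, rfl⟩ := (mem_X hij).1 hx
  obtain ⟨t, rfl⟩ := (mem_X hkl).1 hy
  rw [← map_mul, ← map_mul, tr_comm hij hkl hjk hil]

open scoped commutatorElement in
theorem tr_br (s t : F) : ⁅(SpecialLinearGroup.transvection hab s : S3 F), SpecialLinearGroup.transvection hbc t⁆ =
    SpecialLinearGroup.transvection hac (s * t) := by
  have h1 : (SpecialLinearGroup.transvection hab s : S3 F) * SpecialLinearGroup.transvection hbc t =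
      SpecialLinearGroup.transvection hac (s * t) * SpecialLinearGroup.transvection hbc t *
        SpecialLinearGroup.transvection hab s := by
    refine en_ext fun i k => ?_
    simp only [en_mul, sum3 hab hbc hac, tr_coe]
    rcases cases3 hab hbc hac i with rfl | rfl | rfl <;> rcases cases3 hab hbc hac k with rfl | rfl | rfl <;>
      simp [hab, hbc, hac, Ne.symm hab, Ne.symm hbc, Ne.symm hac]
  rw [commutatorElement_def, h1]
  group

open scoped commutatorElement in
theorem not_par_X (hφ : φ.ker ≤ Subgroup.center (S3 F)) : ¬ Par ((X a b).map φ) ((X b c).map φ) := by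
  intro h
  have h1 := h _ ⟨_, tr_mem hab 1, rfl⟩ _ ⟨_, tr_mem hbc 1, rfl⟩
  have h2 : φ ⁅(SpecialLinearGroup.transvection hab 1 : S3 F), SpecialLinearGroup.transvection hbc 1⁆ = 1 := by
    rw [map_commutatorElement, commutatorElement_eq_one_iff_mul_comm]
    exact h1
  rw [tr_br hab hbc hac] at h2
  have h3 := eq_one_of_map hac hbc.symm hab φ hφ (X_le_Blk hac hbc.symm hab (tr_mem hac _)) h2
  rw [← tr_zero hac] at h3
  have := tr_inj hac h3
  simp at this

theorem not_par_X' (hφ : φ.ker ≤ Subgroup.center (S3 F)) : ¬ Par ((X a b).map φ) ((X b a).map φ) := by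
  intro h
  have h1 := h _ ⟨_, tr_mem hab 1, rfl⟩ _ ⟨_, tr_mem hab.symm 1, rfl⟩
  rw [← map_mul, ← map_mul] at h1
  have m1 := X_le_Blk hab hbc hac (tr_mem (F := F) hab 1)
  have m2 := X_le_Blk hab.symm hac hbc (tr_mem (F := F) hab.symm 1)
  have h2 := inj_on hab hbc hac φ hφ (mul_mem m1 m2) (mul_mem m2 m1) h1
  have h3 := congrArg (fun m : S3 F => en m a a) h2
  simp only [en_mul, sum3 hab hbc hac, tr_coe] at h3
  simp [hab, hbc, hac, Ne.symm hab, Ne.symm hbc, Ne.symm hac] at h3

/-- the Weyl element `wl bc` conjugates `X a b` into `X a c`. -/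
theorem wl_conj (t : F) : (wl hbc : S3 F)⁻¹ * SpecialLinearGroup.transvection hab t * wl hbc =
    SpecialLinearGroup.transvection hac t := by
  rw [mul_assoc, inv_mul_eq_iff_eq_mul]
  obtain ⟨p1, p2, p3, p4⟩ := wl_entries (F := F) hbc hac.symm hab.symm
  obtain ⟨q1, q2, q3, q4, q5, -⟩ := blk_entries hbc hac.symm hab.symm
    (std_le_Blk hbc hac.symm hab.symm (wl_mem (F := F) hbc))
  refine en_ext fun i k => ?_
  simp only [en_mul, sum3 hab hbc hac, tr_coe]
  rcases cases3 hab hbc hac i with rfl | rfl | rfl <;> rcases cases3 hab hbc hac k with rfl | rfl | rfl <;>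
      simp [hab, hbc, hac, Ne.symm hab, Ne.symm hbc, Ne.symm hac, p1, p2, p3, p4, q1, q2, q3, q4, q5]

end Triple

/-! ### the graph automorphism -/

/-- inverse transpose -/
def gr : S3 F →* S3 F where
  toFun g := ⟨(g⁻¹).1ᵀ, by rw [Matrix.det_transpose]; exact (g⁻¹).2⟩
  map_one' := by
    apply Subtype.ext
    show ((1 : S3 F)⁻¹).1ᵀ = (1 : Matrix (Fin 3) (Fin 3) F)
    rw [inv_one]
    exact Matrix.transpose_one
  map_mul' g h := by
    apply Subtype.ext
    show ((g * h)⁻¹ : S3 F).1ᵀ = (g⁻¹).1ᵀ * (h⁻¹).1ᵀ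
    rw [_root_.mul_inv_rev, ← Matrix.transpose_mul]
    rfl

theorem gr_coe (g : S3 F) (i k : Fin 3) : en (gr g) i k = en g⁻¹ k i := rfl

theorem gr_injective : Function.Injective (gr : S3 F →* S3 F) := by
  intro g h hgh
  apply inv_injective
  refine en_ext fun i k => ?_
  rw [← gr_coe, ← gr_coe, hgh]

theorem gr_tr {a b : Fin 3} (h : a ≠ b) (t : F) :
    gr (SpecialLinearGroup.transvection h t) = SpecialLinearGroup.transvection h.symm (-t) := by
  refine en_ext fun i k => ?_
  rw [gr_coe, ← tr_neg, tr_coe, tr_coe]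
  simp only [eq_comm, and_comm]

theorem map_gr_X {a b : Fin 3} (h : a ≠ b) : (X a b : Subgroup (S3 F)).map gr = X b a := by
  ext x
  constructor
  · rintro ⟨y, hy, rfl⟩
    obtain ⟨t, rfl⟩ := (mem_X h).1 hy
    rw [gr_tr]
    exact tr_mem _ _
  · intro hx
    obtain ⟨t, rfl⟩ := (mem_X h.symm).1 hx
    exact ⟨_, tr_mem h (-t), by rw [gr_tr, neg_neg]⟩

theorem ker_comp {φ : S3 F →* G} (hφ : φ.ker ≤ Subgroup.center (S3 F)) {f : S3 F →* S3 F}
    (hf : Function.Injective f) : (φ.comp f).ker ≤ Subgroup.center (S3 F) := by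
  intro x hx
  have h1 : f x ∈ Subgroup.center (S3 F) := hφ hx
  rw [Subgroup.mem_center_iff] at h1 ⊢
  intro y
  apply hf
  rw [map_mul, map_mul, h1]

/-! ### permutations of the coordinates -/

/-- simultaneous permutation of rows and columns -/
def pm (σ : Equiv.Perm (Fin 3)) : S3 F →* S3 F where
  toFun g := ⟨g.1.submatrix σ σ, by rw [Matrix.det_submatrix_equiv_self]; exact g.2⟩
  map_one' := Subtype.ext (Matrix.submatrix_one_equiv σ)
  map_mul' g h := Subtype.ext (Matrix.submatrix_mul_equiv g.1 h.1 σ σ σ).symm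

theorem pm_coe (σ : Equiv.Perm (Fin 3)) (g : S3 F) (i k : Fin 3) : en (pm σ g) i k = en g (σ i) (σ k) := rfl

theorem pm_injective (σ : Equiv.Perm (Fin 3)) : Function.Injective (pm σ : S3 F →* S3 F) := by
  intro g h hgh
  refine en_ext fun i k => ?_
  have := congrArg (fun m : S3 F => en m (σ.symm i) (σ.symm k)) hgh
  simpa [pm_coe] using this

theorem pm_tr (σ : Equiv.Perm (Fin 3)) {a b : Fin 3} (h : a ≠ b) (h' : σ a ≠ σ b) (t : F) :
    pm σ (SpecialLinearGroup.transvection h' t) = SpecialLinearGroup.transvection h t := by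
  refine en_ext fun i k => ?_
  rw [pm_coe, tr_coe, tr_coe]
  simp only [EmbeddingLike.apply_eq_iff_eq]

theorem map_pm_X (σ : Equiv.Perm (Fin 3)) {a b : Fin 3} (h : a ≠ b) :
    (X (σ a) (σ b) : Subgroup (S3 F)).map (pm σ) = X a b := by
  have h' : σ a ≠ σ b := fun e => h (σ.injective e)
  ext x
  constructor
  · rintro ⟨y, hy, rfl⟩
    obtain ⟨t, rfl⟩ := (mem_X h').1 hy
    rw [pm_tr σ h]
    exact tr_mem _ _
  · intro hx
    obtain ⟨t, rfl⟩ := (mem_X h).1 hx
    exact ⟨_, tr_mem h' t, by rw [pm_tr σ h]⟩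

end Cfsg.Agent.CTFrame.Root
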