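import Mathlib

/-!
# Root subgroups, standard `SL₂`'s and diagonal involutions in `SL (Fin 3) F`

`X a b` = transvection group, `std a b = X a b ⊔ X b a`, `dg c` = the diagonal matrix with `1` at `c` and `-1` at the two
other places, `wl b c` a Weyl element in `std b c`.
Main point (`root_or`): a subgroup `Y` of `std a b` consisting of unipotent elements and normalised by `dg a` is contained
in `X a b` or in `X b a` (characteristic not 2).
-/

set_option autoImplicit false
set_option linter.unusedSectionVars false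
set_option linter.unusedVariables false
set_option linter.unusedSimpArgs false

namespace Cfsg.Agent.CTFrame.SL3

open Matrix

universe u

variable {F : Type u} [Field F]

/-- `SL₃` -/
abbrev S3 (F : Type u) [Field F] : Type u := SpecialLinearGroup (Fin 3) F

section Cases

variable {a b c : Fin 3}

theorem sum3 (hab : a ≠ b) (hbc : b ≠ c) (hac : a ≠ c) {M : Type*} [AddCommMonoid M] (f : Fin 3 → M) :
    ∑ k, f k = f a + f b + f c := by
  have hu : (Finset.univ : Finset (Fin 3)) = {a, b, c} := by
    revert a b c; decide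
  rw [hu, Finset.sum_insert, Finset.sum_insert, Finset.sum_singleton, add_assoc]
  · simpa using hbc
  · simp [hab, hac]

theorem cases3 (hab : a ≠ b) (hbc : b ≠ c) (hac : a ≠ c) (k : Fin 3) : k = a ∨ k = b ∨ k = c := by
  revert a b c k; decide

theorem det3 (hab : a ≠ b) (hbc : b ≠ c) (hac : a ≠ c) (M : Matrix (Fin 3) (Fin 3) F) :
    M.det = M a a * (M b b * M c c - M b c * M c b) - M a b * (M b a * M c c - M b c * M c a)
      + M a c * (M b a * M c b - M b b * M c a) := by
  rw [Matrix.det_fin_three]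
  have key : ∀ a b c : Fin 3, a ≠ b → b ≠ c → a ≠ c →
      (M 0 0 * M 1 1 * M 2 2 - M 0 0 * M 1 2 * M 2 1 - M 0 1 * M 1 0 * M 2 2 + M 0 1 * M 1 2 * M 2 0 +
        M 0 2 * M 1 0 * M 2 1 - M 0 2 * M 1 1 * M 2 0) =
      M a a * (M b b * M c c - M b c * M c b) - M a b * (M b a * M c c - M b c * M c a)
      + M a c * (M b a * M c b - M b b * M c a) := by
    intro a b c h1 h2 h3
    fin_cases a <;> fin_cases b <;> first | exact absurd rfl h1 | skip
    all_goals
      fin_cases c <;> first | exact absurd rfl h2 | exact absurd rfl h3 | skip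
    all_goals simp only [Fin.zero_eta, Fin.mk_one, Fin.reduceFinMk]; ring
  exact key a b c hab hbc hac

theorem trace3 (hab : a ≠ b) (hbc : b ≠ c) (hac : a ≠ c) (M : Matrix (Fin 3) (Fin 3) F) :
    M.trace = M a a + M b b + M c c := by
  rw [Matrix.trace, sum3 hab hbc hac]
  rfl

theorem ext3 (hab : a ≠ b) (hbc : b ≠ c) (hac : a ≠ c) {M N : Matrix (Fin 3) (Fin 3) F}
    (h : ∀ k, M a k = N a k ∧ M b k = N b k ∧ M c k = N c k) : M = N := by
  ext i k
  rcases cases3 hab hbc hac i with rfl | rfl | rfl
  · exact (h k).1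
  · exact (h k).2.1
  · exact (h k).2.2

end Cases

/-- matrix entries -/
def en (g : S3 F) (i k : Fin 3) : F := (g.1 : Matrix (Fin 3) (Fin 3) F) i k

theorem en_mul (g h : S3 F) (i k : Fin 3) : en (g * h) i k = ∑ j, en g i j * en h j k := rfl

theorem en_one (i k : Fin 3) : en (1 : S3 F) i k = if i = k then 1 else 0 := Matrix.one_apply

theorem en_ext {g h : S3 F} (hgh : ∀ i k, en g i k = en h i k) : g = h :=
  Subtype.ext (Matrix.ext hgh)

/-- the transvection group -/
def X (a b : Fin 3) : Subgroup (S3 F) :=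
  Subgroup.closure {g | ∃ h : a ≠ b, ∃ t : F, g = SpecialLinearGroup.transvection h t}

theorem tr_add {a b : Fin 3} (h : a ≠ b) (s t : F) :
    (SpecialLinearGroup.transvection h (s + t) : S3 F) =
      SpecialLinearGroup.transvection h s * SpecialLinearGroup.transvection h t :=
  Subtype.ext (Matrix.transvection_mul_transvection_same a b h s t).symm

theorem tr_zero {a b : Fin 3} (h : a ≠ b) : (SpecialLinearGroup.transvection h 0 : S3 F) = 1 :=
  SpecialLinearGroup.transvection_coeff_zero h

theorem tr_neg {a b : Fin 3} (h : a ≠ b) (t : F) :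
    (SpecialLinearGroup.transvection h (-t) : S3 F) = (SpecialLinearGroup.transvection h t)⁻¹ := by
  rw [eq_inv_iff_mul_eq_one, ← tr_add, neg_add_cancel, tr_zero]

theorem mem_X {a b : Fin 3} (h : a ≠ b) {g : S3 F} : g ∈ (X a b : Subgroup (S3 F)) ↔
    ∃ t : F, g = SpecialLinearGroup.transvection h t := by
  constructor
  · intro hg
    refine Subgroup.closure_induction (p := fun g _ => ∃ t : F, g = SpecialLinearGroup.transvection h t)
      ?_ ?_ ?_ ?_ hg
    · rintro x ⟨_, t, rfl⟩
      exact ⟨t, rfl⟩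
    · exact ⟨0, (tr_zero h).symm⟩
    · rintro x y _ _ ⟨s, rfl⟩ ⟨t, rfl⟩
      exact ⟨s + t, (tr_add h s t).symm⟩
    · rintro x _ ⟨s, rfl⟩
      exact ⟨-s, (tr_neg h s).symm⟩
  · rintro ⟨t, rfl⟩
    exact Subgroup.subset_closure ⟨h, t, rfl⟩

theorem tr_mem {a b : Fin 3} (h : a ≠ b) (t : F) :
    (SpecialLinearGroup.transvection h t : S3 F) ∈ (X a b : Subgroup (S3 F)) :=
  Subgroup.subset_closure ⟨h, t, rfl⟩

theorem tr_coe {a b : Fin 3} (h : a ≠ b) (t : F) (i k : Fin 3) :
    en (SpecialLinearGroup.transvection h t : S3 F) i k =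
      (if i = k then 1 else 0) + (if a = i ∧ b = k then t else 0) := by
  show ((1 : Matrix (Fin 3) (Fin 3) F) + Matrix.single a b t) i k = _
  rw [Matrix.add_apply, Matrix.one_apply, Matrix.single_apply]

theorem tr_inj {a b : Fin 3} (h : a ≠ b) {s t : F}
    (hst : (SpecialLinearGroup.transvection h s : S3 F) = SpecialLinearGroup.transvection h t) : s = t := by
  have := congrArg (fun g : S3 F => en g a b) hst
  simpa [tr_coe, h] using this

/-- the standard `SL₂` -/
def std (a b : Fin 3) : Subgroup (S3 F) := X a b ⊔ X b a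

theorem std_symm (a b : Fin 3) : (std a b : Subgroup (S3 F)) = std b a := sup_comm _ _

theorem X_le_std (a b : Fin 3) : (X a b : Subgroup (S3 F)) ≤ std a b := le_sup_left
theorem X_le_std' (a b : Fin 3) : (X b a : Subgroup (S3 F)) ≤ std a b := le_sup_right

/-- the stabiliser of the vector `e_c` and of the dual vector `e_c` -/
def Blk (c : Fin 3) : Subgroup (S3 F) where
  carrier := {g | ∀ i, en g i c = (if i = c then 1 else 0) ∧ en g c i = (if i = c then 1 else 0)}
  one_mem' := by
    intro i
    rw [en_one, en_one]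
    simp only [eq_comm, and_self]
  mul_mem' := by
    intro g h hg hh i
    rw [en_mul, en_mul]
    constructor
    · rw [Finset.sum_eq_single c]
      · rw [(hh c).1, if_pos rfl, mul_one, (hg i).1]
      · intro k _ hk
        rw [(hh k).1, if_neg hk, mul_zero]
      · intro h; exact absurd (Finset.mem_univ _) h
    · rw [Finset.sum_eq_single c]
      · rw [(hg c).1, if_pos rfl, one_mul, (hh i).2]
      · intro k _ hk
        rw [(hg k).2, if_neg hk, zero_mul]
      · intro h; exact absurd (Finset.mem_univ _) h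
  inv_mem' := by
    intro g hg i
    have e1 : (g * g⁻¹ : S3 F) = 1 := mul_inv_cancel g
    have e2 : (g⁻¹ * g : S3 F) = 1 := inv_mul_cancel g
    constructor
    · have := congrArg (fun m : S3 F => en m i c) e2
      simp only [en_mul, en_one] at this
      rw [Finset.sum_eq_single c] at this
      · rw [(hg c).1, if_pos rfl, mul_one] at this
        exact this
      · intro k _ hk
        rw [(hg k).1, if_neg hk, mul_zero]
      · intro h; exact absurd (Finset.mem_univ _) h
    · have := congrArg (fun m : S3 F => en m c i) e1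
      simp only [en_mul, en_one] at this
      rw [Finset.sum_eq_single c] at this
      · rw [(hg c).1, if_pos rfl, one_mul] at this
        rw [this]
        simp only [eq_comm]
      · intro k _ hk
        rw [(hg k).2, if_neg hk, zero_mul]
      · intro h; exact absurd (Finset.mem_univ _) h

section Triple

variable {a b c : Fin 3} (hab : a ≠ b) (hbc : b ≠ c) (hac : a ≠ c)

include hab hbc hac

theorem X_le_Blk : (X a b : Subgroup (S3 F)) ≤ Blk c := by
  intro g hg
  obtain ⟨t, rfl⟩ := (mem_X hab).1 hg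
  intro i
  rw [tr_coe, tr_coe]
  simp [hab, hbc, hac, Ne.symm hbc, Ne.symm hac, eq_comm]

theorem std_le_Blk : (std a b : Subgroup (S3 F)) ≤ Blk c :=
  sup_le (X_le_Blk hab hbc hac) (X_le_Blk hab.symm hac hbc)

/-- the entries of a block matrix -/
theorem blk_entries {g : S3 F} (hg : g ∈ (Blk c : Subgroup (S3 F))) :
    en g c c = 1 ∧ en g c a = 0 ∧ en g c b = 0 ∧ en g a c = 0 ∧ en g b c = 0 ∧
      en g a a * en g b b - en g a b * en g b a = 1 := by
  have h1 := (hg c).1
  have h2 := (hg a).2
  have h3 := (hg b).2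
  have h4 := (hg a).1
  have h5 := (hg b).1
  rw [if_pos rfl] at h1
  rw [if_neg hac] at h2 h4
  rw [if_neg hbc] at h3 h5
  refine ⟨h1, h2, h3, h4, h5, ?_⟩
  have hd := g.2
  rw [det3 hab hbc hac] at hd
  change en g a a * (en g b b * en g c c - en g b c * en g c b) -
      en g a b * (en g b a * en g c c - en g b c * en g c a)
      + en g a c * (en g b a * en g c b - en g b b * en g c a) = 1 at hd
  rw [h1, h2, h3, h4, h5] at hd
  linear_combination hd

theorem blk_ext {g h : S3 F} (hg : g ∈ (Blk c : Subgroup (S3 F))) (hh : h ∈ (Blk c : Subgroup (S3 F)))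
    (h1 : en g a a = en h a a) (h2 : en g a b = en h a b) (h3 : en g b a = en h b a) (h4 : en g b b = en h b b) :
    g = h := by
  apply Subtype.ext
  obtain ⟨p1, p2, p3, p4, p5, -⟩ := blk_entries hab hbc hac hg
  obtain ⟨q1, q2, q3, q4, q5, -⟩ := blk_entries hab hbc hac hh
  refine ext3 hab hbc hac fun k => ?_
  rcases cases3 hab hbc hac k with rfl | rfl | rfl
  · exact ⟨h1, h3, p2.trans q2.symm⟩
  · exact ⟨h2, h4, p3.trans q3.symm⟩
  · exact ⟨p4.trans q4.symm, p5.trans q5.symm, p1.trans q1.symm⟩

/-- an upper triangular unipotent block matrix is a transvection -/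
theorem mem_X_of_entries {g : S3 F} (hg : g ∈ (Blk c : Subgroup (S3 F))) (h1 : en g a a = 1) (h2 : en g b a = 0)
    (h3 : en g b b = 1) : g ∈ (X a b : Subgroup (S3 F)) := by
  have : g = SpecialLinearGroup.transvection hab (en g a b) := by
    refine blk_ext hab hbc hac hg (X_le_Blk hab hbc hac (tr_mem hab _)) ?_ ?_ ?_ ?_
    · rw [tr_coe, h1]; simp [Ne.symm hab]
    · rw [tr_coe]; simp [hab]
    · rw [tr_coe, h2]; simp [hab, Ne.symm hab]
    · rw [tr_coe, h3]; simp [hab, Ne.symm hab]
  rw [this]
  exact tr_mem hab _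

omit hab hbc hac in
/-- the diagonal involution with `1` at `c` -/
def dg (c : Fin 3) : S3 F :=
  ⟨Matrix.diagonal fun i => if i = c then 1 else -1, by
    rw [Matrix.det_diagonal, Fin.prod_univ_three]
    fin_cases c <;> simp⟩

omit hab hbc hac in
theorem dg_coe (c i k : Fin 3) : en (dg c : S3 F) i k = if i = k then (if i = c then 1 else -1) else 0 := by
  show Matrix.diagonal (fun i => if i = c then (1 : F) else -1) i k = _
  rw [Matrix.diagonal_apply]

omit hab hbc hac in
theorem dg_sq (c : Fin 3) : (dg c : S3 F) * dg c = 1 := by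
  apply Subtype.ext
  show Matrix.diagonal _ * Matrix.diagonal _ = (1 : Matrix (Fin 3) (Fin 3) F)
  rw [Matrix.diagonal_mul_diagonal, ← Matrix.diagonal_one]
  congr 1
  funext i
  split_ifs <;> simp

omit hab hbc hac in
theorem dg_ne (h2 : (2 : F) ≠ 0) (c : Fin 3) : (dg c : S3 F) ≠ 1 := by
  intro h
  obtain ⟨i, hi⟩ : ∃ i : Fin 3, i ≠ c := exists_ne c
  have := congrArg (fun m : S3 F => en m i i) h
  simp only [dg_coe, en_one, if_true, if_neg hi] at this
  apply h2
  linear_combination -this

theorem dg_mul : (dg a : S3 F) * dg b = dg c := by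
  apply Subtype.ext
  show Matrix.diagonal _ * Matrix.diagonal _ = Matrix.diagonal _
  rw [Matrix.diagonal_mul_diagonal]
  congr 1
  funext i
  rcases cases3 hab hbc hac i with rfl | rfl | rfl
  · simp [hab, hac]
  · simp [Ne.symm hab, hbc]
  · simp [Ne.symm hbc, Ne.symm hac]

omit hab hbc hac in
theorem dg_inv (c : Fin 3) : (dg c : S3 F)⁻¹ = dg c := by
  rw [inv_eq_iff_mul_eq_one, dg_sq]

omit hab hbc hac in
theorem dg_conj (c : Fin 3) (g : S3 F) (i k : Fin 3) : en (dg c * g * (dg c)⁻¹ : S3 F) i k =
    (if i = c then 1 else -1) * en g i k * (if k = c then 1 else -1) := by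
  rw [dg_inv]
  show ((Matrix.diagonal _ * g.1 * Matrix.diagonal _ : Matrix (Fin 3) (Fin 3) F)) i k = _
  rw [Matrix.mul_diagonal, Matrix.diagonal_mul]
  rfl

omit hab hbc hac in
/-- conjugation of root subgroups by diagonal involutions -/
theorem dg_conj_X (c : Fin 3) {i k : Fin 3} (hik : i ≠ k) {g : S3 F} (hg : g ∈ (X i k : Subgroup (S3 F))) :
    dg c * g * (dg c)⁻¹ ∈ (X i k : Subgroup (S3 F)) := by
  obtain ⟨t, rfl⟩ := (mem_X hik).1 hg
  rw [mem_X hik]
  refine ⟨(if i = c then 1 else -1) * t * (if k = c then 1 else -1), ?_⟩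
  refine en_ext fun m n => ?_
  rw [dg_conj, tr_coe, tr_coe]
  by_cases h1 : m = n
  · subst h1
    have h3 : ¬ (i = m ∧ k = m) := fun h => hik (h.1.trans h.2.symm)
    rw [if_pos rfl, if_neg h3, if_neg h3]
    split_ifs <;> ring
  · rw [if_neg h1]
    by_cases h2 : i = m ∧ k = n
    · obtain ⟨rfl, rfl⟩ := h2
      simp
    · rw [if_neg h2, if_neg h2]
      ring

omit hab hbc hac in
theorem dg_conj_std (c : Fin 3) {i k : Fin 3} (hik : i ≠ k) {g : S3 F} (hg : g ∈ (std i k : Subgroup (S3 F))) :
    dg c * g * (dg c)⁻¹ ∈ (std i k : Subgroup (S3 F)) := by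
  have h : (std i k : Subgroup (S3 F)) ≤ (std i k : Subgroup (S3 F)).comap (MulAut.conj (dg c)).toMonoidHom := by
    refine sup_le ?_ ?_
    · intro x hx
      exact X_le_std i k (dg_conj_X c hik hx)
    · intro x hx
      exact X_le_std' i k (dg_conj_X c hik.symm hx)
  exact h hg

omit hab hbc hac in
/-- Weyl element -/
def wl {a b : Fin 3} (hab : a ≠ b) : S3 F :=
  SpecialLinearGroup.transvection hab 1 * SpecialLinearGroup.transvection hab.symm (-1) *
    SpecialLinearGroup.transvection hab 1

omit hbc hac in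
theorem wl_mem : (wl hab : S3 F) ∈ (std a b : Subgroup (S3 F)) :=
  mul_mem (mul_mem (X_le_std a b (tr_mem hab _)) (X_le_std' a b (tr_mem hab.symm _))) (X_le_std a b (tr_mem hab _))

theorem wl_entries : en (wl hab : S3 F) a a = 0 ∧ en (wl hab : S3 F) a b = 1 ∧ en (wl hab : S3 F) b a = -1 ∧
    en (wl hab : S3 F) b b = 0 := by
  unfold wl
  simp only [en_mul, sum3 hab hbc hac]
  have t := fun (s : F) i k => tr_coe hab s i k
  have t' := fun (s : F) i k => tr_coe hab.symm s i k
  simp only [t, t']
  simp [hab, hbc, hac, Ne.symm hab, Ne.symm hbc, Ne.symm hac]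

theorem wl_sq : (wl hab : S3 F) * wl hab = dg c := by
  have hw := std_le_Blk hab hbc hac (wl_mem (F := F) hab)
  have hd : (dg c : S3 F) ∈ (Blk c : Subgroup (S3 F)) := by
    intro i
    rw [dg_coe, dg_coe]
    by_cases h : i = c
    · subst h; simp
    · simp [h, Ne.symm h]
  obtain ⟨p1, p2, p3, p4⟩ := wl_entries (F := F) hab hbc hac
  obtain ⟨q1, q2, q3, q4, q5, -⟩ := blk_entries hab hbc hac hw
  refine blk_ext hab hbc hac (mul_mem hw hw) hd ?_ ?_ ?_ ?_
  all_goals
    rw [en_mul, sum3 hab hbc hac, dg_coe]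
    simp only [p1, p2, p3, p4, q1, q2, q3, q4, q5]
    simp [hab, Ne.symm hab, hac, hbc]

theorem dg_mem_std : (dg c : S3 F) ∈ (std a b : Subgroup (S3 F)) := by
  rw [← wl_sq hab hbc hac]
  exact mul_mem (wl_mem hab) (wl_mem hab)

theorem dg_mem_Blk : (dg c : S3 F) ∈ (Blk c : Subgroup (S3 F)) := std_le_Blk hab hbc hac (dg_mem_std hab hbc hac)

/-- the only involution of a block -/
theorem eq_dg (h2 : (2 : F) ≠ 0) {s : S3 F} (hs : s ∈ (Blk c : Subgroup (S3 F))) (hs2 : s * s = 1) (hs1 : s ≠ 1) :
    s = dg c := by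
  obtain ⟨q1, q2, q3, q4, q5, hd⟩ := blk_entries hab hbc hac hs
  have haa := congrArg (fun m : S3 F => en m a a) hs2
  have hab' := congrArg (fun m : S3 F => en m a b) hs2
  have hba := congrArg (fun m : S3 F => en m b a) hs2
  have hbb := congrArg (fun m : S3 F => en m b b) hs2
  simp only [en_mul, en_one, sum3 hab hbc hac, if_neg hab, if_neg (Ne.symm hab), if_true, q2, q3, q4, q5, mul_zero, add_zero] at haa hab' hba hbb
  have e1 : en s a a * (en s a a + en s b b) = 2 := by linear_combination haa + hd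
  have e0 : en s a a + en s b b ≠ 0 := by
    intro h
    rw [h, mul_zero] at e1
    exact h2 e1.symm
  have e2 : en s a b = 0 := by
    have : en s a b * (en s a a + en s b b) = 0 := by linear_combination hab'
    exact (mul_eq_zero.1 this).resolve_right e0
  have e3 : en s b a = 0 := by
    have : en s b a * (en s a a + en s b b) = 0 := by linear_combination hba
    exact (mul_eq_zero.1 this).resolve_right e0
  rw [e2, e3, mul_zero, sub_zero] at hd
  rw [e2, zero_mul, add_zero] at haa
  have e4 : en s a a = en s b b := by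
    have h0 : en s a a ≠ 0 := by
      intro h; rw [h, zero_mul] at haa; exact zero_ne_one haa
    exact mul_left_cancel₀ h0 (haa.trans hd.symm)
  have e5 : (en s a a - 1) * (en s a a + 1) = 0 := by linear_combination haa
  rcases mul_eq_zero.1 e5 with h | h
  · exfalso
    apply hs1
    refine blk_ext hab hbc hac hs (one_mem _) ?_ ?_ ?_ ?_
    · rw [en_one, if_pos rfl]; linear_combination h
    · rw [en_one, if_neg hab, e2]
    · rw [en_one, if_neg hab.symm, e3]
    · rw [en_one, if_pos rfl]; linear_combination h - e4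
  · refine blk_ext hab hbc hac hs (dg_mem_Blk hab hbc hac) ?_ ?_ ?_ ?_
    · rw [dg_coe, if_pos rfl, if_neg hac]; linear_combination h
    · rw [dg_coe, if_neg hab, e2]
    · rw [dg_coe, if_neg hab.symm, e3]
    · rw [dg_coe, if_pos rfl, if_neg hbc]; linear_combination h - e4

end Triple

end Cfsg.Agent.CTFrame.SL3
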