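import Cfsg.Agent.CTFrame.Weyl

/-!
# The torus of a group with the Steinberg relations of type `A`

`HRel x`: the map `u ↦ t i j u` is multiplicative.  Then the torus maps injectively to the diagonal matrices.
-/

set_option autoImplicit false
set_option linter.unusedSectionVars false
set_option linter.unusedVariables false

namespace Cfsg.Agent.CTFrame.Torus

open scoped commutatorElement
open Matrix Cfsg.Agent.AGraded Cfsg.Agent.CTFrame.Weyl

universe u v w

variable {ι : Type u} [Fintype ι] [DecidableEq ι] {F : Type v} [Field F] {Γ : Type w} [Group Γ]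

/-- `h_{ij}` is multiplicative -/
def HRel (x : ι → ι → F → Γ) : Prop :=
  ∀ i j, i ≠ j → ∀ a b : F, a ≠ 0 → b ≠ 0 → t x i j a * t x i j b = t x i j (a * b)

/-- the torus -/
def tor (x : ι → ι → F → Γ) : Subgroup Γ := Subgroup.closure {g | ∃ i j, i ≠ j ∧ ∃ u, u ≠ 0 ∧ g = t x i j u}

variable {x : ι → ι → F → Γ}

theorem t_mem_tor {i j : ι} (hij : i ≠ j) {u : F} (hu : u ≠ 0) : t x i j u ∈ tor x :=
  Subgroup.subset_closure ⟨i, j, hij, u, hu, rfl⟩

section phi

variable {φ : Γ →* SpecialLinearGroup ι F}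
  (hφ : ∀ i j (hij : i ≠ j) a, φ (x i j a) = SpecialLinearGroup.transvection hij a)

include hφ

theorem phi_x {i j : ι} (hij : i ≠ j) (a : F) (v : ι → F) (k : ι) :
    (φ (x i j a) • v) k = if k = i then v i + a * v j else v k := by
  rw [hφ i j hij, Cfsg.Agent.LieClassical.SLGen.transvection_smul]
  by_cases hk : k = i
  · subst hk
    simp
  · simp [hk]

theorem phi_w {i j : ι} (hij : i ≠ j) {u : F} (hu : u ≠ 0) (v : ι → F) (k : ι) :
    (φ (w x i j u) • v) k = if k = i then u * v j else if k = j then -u⁻¹ * v i else v k := by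
  have e1 := phi_x hφ hij u
  have e2 := phi_x hφ hij.symm (-u⁻¹)
  rw [w, map_mul, map_mul, mul_smul, mul_smul]
  by_cases hki : k = i
  · subst hki
    simp only [e1, e2, if_true, hij, hij.symm, if_false]
    field_simp
    ring
  · by_cases hkj : k = j
    · subst hkj
      simp only [e1, e2, if_true, hij, hij.symm, if_false]
      field_simp
      ring
    · simp only [e1, e2, if_true, hij, hij.symm, if_false, hki, hkj]

theorem phi_t {i j : ι} (hij : i ≠ j) {u : F} (hu : u ≠ 0) (v : ι → F) (k : ι) :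
    (φ (t x i j u) • v) k = df i j u k * v k := by
  have h2 : (-1 : F) ≠ 0 := neg_ne_zero.2 one_ne_zero
  rw [t, map_mul, mul_smul, phi_w hφ hij hu, phi_w hφ hij h2, phi_w hφ hij h2, phi_w hφ hij h2]
  by_cases hki : k = i
  · subst hki
    simp [hij.symm, df]
  · by_cases hkj : k = j
    · subst hkj
      simp [hki, df]
    · simp [hki, hkj, df]

end phi

variable (h : SteinRel x) (hh : HRel x)

include h hh

theorem t_inv {i j : ι} (hij : i ≠ j) {u : F} (hu : u ≠ 0) : (t x i j u)⁻¹ = t x i j u⁻¹ := by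
  rw [inv_eq_iff_mul_eq_one, hh i j hij u u⁻¹ hu (inv_ne_zero hu), mul_inv_cancel₀ hu, t_one h hij]

theorem t_comm (hι : 3 ≤ Fintype.card ι) {i j k l : ι} (hij : i ≠ j) (hkl : k ≠ l) {a b : F} (ha : a ≠ 0) (hb : b ≠ 0) :
    Commute (t x i j a) (t x k l b) := by
  have hc : df i j a k * (df i j a l)⁻¹ ≠ 0 := mul_ne_zero (df_ne ha _) (inv_ne_zero (df_ne ha _))
  have h1 := conj_t_of h hkl (t_conj_w h hι hij ha hkl) b
  rw [mul_comm _ b, ← hh k l hkl _ _ hb hc, mul_inv_cancel_right, mul_inv_eq_iff_eq_mul] at h1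
  exact h1

/-- conjugate of a torus element by a Weyl element, written in the torus -/
theorem w_conj_t {i j k l : ι} (hι : 3 ≤ Fintype.card ι) (hij : i ≠ j) (hkl : k ≠ l) {b : F} (hb : b ≠ 0) :
    w x i j 1 * t x k l b * (w x i j 1)⁻¹ = t x (Equiv.swap i j k) (Equiv.swap i j l) b := by
  have hσ : Equiv.swap i j k ≠ Equiv.swap i j l := fun e => hkl ((Equiv.swap i j).injective e)
  have h1 : (1 : F) ≠ 0 := one_ne_zero
  have hc : cf i j 1 k * (cf i j 1 l)⁻¹ ≠ (0 : F) := mul_ne_zero (cf_ne h1 _) (inv_ne_zero (cf_ne h1 _))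
  have h2 := conj_t_of h hσ (w_conj_w h hι hij h1 hkl) b
  rwa [mul_comm _ b, ← hh _ _ hσ _ _ hb hc, mul_inv_cancel_right] at h2

/-- the same conjugate computed the other way -/
theorem t_conj_w' (hι : 3 ≤ Fintype.card ι) {i j k l : ι} (hij : i ≠ j) (hkl : k ≠ l) {b : F} (hb : b ≠ 0) :
    w x i j 1 * t x k l b * (w x i j 1)⁻¹ = t x k l b * t x i j (df k l b⁻¹ i * (df k l b⁻¹ j)⁻¹) := by
  have hb' := inv_ne_zero hb
  have h1 := t_conj_w h hι hkl hb' hij 1
  rw [mul_one, ← t_inv h hh hkl hb, inv_inv] at h1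
  have e : t x i j (df k l b⁻¹ i * (df k l b⁻¹ j)⁻¹) =
      w x i j (df k l b⁻¹ i * (df k l b⁻¹ j)⁻¹) * w x i j (-1) := rfl
  rw [e, ← h1, winv h hij]
  group

theorem t_rev (hι : 3 ≤ Fintype.card ι) {i j : ι} (hij : i ≠ j) {u : F} (hu : u ≠ 0) : t x j i u = t x i j u⁻¹ := by
  have h1 := w_conj_t h hh hι hij hij hu
  rw [t_conj_w' h hh hι hij hij hu, Equiv.swap_apply_left, Equiv.swap_apply_right] at h1
  have hu' := inv_ne_zero hu
  have e : df i j u⁻¹ i * (df i j u⁻¹ j)⁻¹ = u⁻¹ * u⁻¹ := by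
    simp [df, hij.symm]
  rw [e, hh i j hij _ _ hu (mul_ne_zero hu' hu')] at h1
  rw [← h1]
  congr 1
  field_simp

theorem t_dec (hι : 3 ≤ Fintype.card ι) {o i j : ι} (hoi : o ≠ i) (hoj : o ≠ j) (hij : i ≠ j) {u : F} (hu : u ≠ 0) :
    t x i j u = t x o j u * t x o i u⁻¹ := by
  have h1 := w_conj_t h hh hι hoi hoj hu
  rw [t_conj_w' h hh hι hoi hoj hu, Equiv.swap_apply_left, Equiv.swap_apply_of_ne_of_ne hoj.symm hij.symm] at h1
  have e : df o j u⁻¹ o * (df o j u⁻¹ i)⁻¹ = u⁻¹ := by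
    simp [df, hoi.symm, hij]
  rw [e] at h1
  exact h1.symm

/-- the torus maps isomorphically to the diagonal group -/
theorem tor_inj (hι : 3 ≤ Fintype.card ι) {φ : Γ →* SpecialLinearGroup ι F}
    (hφ : ∀ i j (hij : i ≠ j) a, φ (x i j a) = SpecialLinearGroup.transvection hij a)
    {g : Γ} (hg : g ∈ tor x) (hg1 : φ g = 1) : g = 1 := by
  have : Nonempty ι := Fintype.card_pos_iff.1 (by omega)
  obtain ⟨o⟩ := this
  let f : ι → Fˣ →* Γ := fun j => if hj : o = j then 1 else
    { toFun := fun u => t x o j u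
      map_one' := by rw [Units.val_one]; exact t_one h hj
      map_mul' := fun u v => (hh o j hj u v u.ne_zero v.ne_zero).symm }
  have hf : ∀ j, o ≠ j → ∀ u : Fˣ, f j u = t x o j u := by
    intro j hj u
    simp only [f, dif_neg hj]
    rfl
  have hfo : ∀ u : Fˣ, f o u = 1 := by
    intro u
    simp only [f, dif_pos]
    rfl
  have hpair : Pairwise fun i j => ∀ a b : Fˣ, Commute (f i a) (f j b) := by
    intro i j hij a b
    by_cases hi : o = i
    · subst hi
      rw [hfo]
      exact Commute.one_left _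
    by_cases hj : o = j
    · subst hj
      rw [hfo]
      exact Commute.one_right _
    rw [hf i hi, hf j hj]
    exact t_comm h hh hι hi hj a.ne_zero b.ne_zero
  let Θ : (ι → Fˣ) →* Γ := MonoidHom.noncommPiCoprod f hpair
  have hΘ : ∀ j (u : Fˣ), Θ (Pi.mulSingle j u) = f j u := fun j u => MonoidHom.noncommPiCoprod_mulSingle ..
  have hle : tor x ≤ Θ.range := by
    rw [tor, Subgroup.closure_le]
    rintro _ ⟨i, j, hij, u, hu, rfl⟩
    by_cases hi : o = i
    · subst hi
      exact ⟨Pi.mulSingle j (Units.mk0 u hu), by rw [hΘ, hf j hij, Units.val_mk0]⟩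
    by_cases hj : o = j
    · subst hj
      refine ⟨Pi.mulSingle i (Units.mk0 u hu)⁻¹, ?_⟩
      rw [hΘ, hf i hi, t_rev h hh hι hi hu, Units.val_inv_eq_inv_val, Units.val_mk0]
    · refine ⟨Pi.mulSingle j (Units.mk0 u hu) * (Pi.mulSingle i (Units.mk0 u hu)⁻¹), ?_⟩
      rw [map_mul, hΘ, hΘ, hf i hi, hf j hj, t_dec h hh hι hi hj hij hu, Units.val_inv_eq_inv_val, Units.val_mk0]
  obtain ⟨y, rfl⟩ := hle hg
  -- the diagonal entries
  have hdiag : ∀ y : ι → Fˣ, ∀ k, o ≠ k → ∀ v : ι → F, (φ (Θ y) • v) k = ((y k)⁻¹ : Fˣ) * v k := by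
    intro y k hk
    refine Pi.mulSingle_induction (fun y => ∀ v : ι → F, (φ (Θ y) • v) k = ((y k)⁻¹ : Fˣ) * v k) y ?_ ?_ ?_
    · intro v
      rw [map_one, map_one, one_smul]
      simp
    · intro a b ha hb v
      rw [map_mul, map_mul, mul_smul, ha, hb, Pi.mul_apply, _root_.mul_inv_rev, Units.val_mul]
      ring
    · intro j a v
      rw [hΘ]
      by_cases hj : o = j
      · subst hj
        rw [hfo, map_one, one_smul, Pi.mulSingle_eq_of_ne hk.symm]
        simp
      · rw [hf j hj, phi_t hφ hj a.ne_zero]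
        by_cases hkj : k = j
        · subst hkj
          simp [hk.symm, df]
        · rw [Pi.mulSingle_eq_of_ne hkj]
          simp [hk.symm, hkj, df]
  have hy : y = Pi.mulSingle o (y o) := by
    funext k
    by_cases hk : o = k
    · subst hk
      simp
    · have h1 := hdiag y k hk (fun _ => 1)
      rw [hg1, one_smul, mul_one] at h1
      have h2 : (y k)⁻¹ = 1 := Units.ext h1.symm
      rw [Pi.mulSingle_eq_of_ne (Ne.symm hk)]
      rwa [inv_eq_one] at h2
  rw [hy, hΘ, hfo]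

end Cfsg.Agent.CTFrame.Torus
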