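import Cfsg.Agent.AGraded.Steinberg

/-!
# Weyl elements and torus elements from the Steinberg relations of type `A`, any field

`w i j u = x i j u * x j i (-u⁻¹) * x i j u`, `t i j u = w i j u * w i j (-1)`.
-/

set_option autoImplicit false
set_option linter.unusedSectionVars false
set_option linter.unusedVariables false

namespace Cfsg.Agent.CTFrame.Weyl

open scoped commutatorElement
open Matrix Cfsg.Agent.AGraded

universe u v w

variable {ι : Type u} [Fintype ι] [DecidableEq ι] {F : Type v} [Field F] {Γ : Type w} [Group Γ]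

variable {x : ι → ι → F → Γ} (h : SteinRel x)

theorem conj_mul3 (a b c y : Γ) : (a * b * c) * y * (a * b * c)⁻¹ = a * (b * (c * y * c⁻¹) * b⁻¹) * a⁻¹ := by
  group

theorem conj_prod (a y z : Γ) : a * (y * z) * a⁻¹ = (a * y * a⁻¹) * (a * z * a⁻¹) := by
  group

theorem conj_br (g a b : Γ) : g * ⁅a, b⁆ * g⁻¹ = ⁅g * a * g⁻¹, g * b * g⁻¹⁆ := by
  simp only [commutatorElement_def]
  group

/-- the element `w_{ij}(u)` -/
def w (x : ι → ι → F → Γ) (i j : ι) (u : F) : Γ := x i j u * x j i (-u⁻¹) * x i j u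

/-- `h_{ij}(u) = w_{ij}(u) w_{ij}(-1)` -/
def t (x : ι → ι → F → Γ) (i j : ι) (u : F) : Γ := w x i j u * w x i j (-1)

/-- coefficients of `w_{ij}(u)` -/
def cf (i j : ι) (u : F) (k : ι) : F := if k = i then -u⁻¹ else if k = j then u else 1

/-- coefficients of `t_{ij}(u)` -/
def df (i j : ι) (u : F) (k : ι) : F := if k = i then u else if k = j then u⁻¹ else 1

theorem cf_ne {i j : ι} {u : F} (hu : u ≠ 0) (k : ι) : cf i j u k ≠ 0 := by
  unfold cf
  split_ifs
  · exact neg_ne_zero.2 (inv_ne_zero hu)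
  · exact hu
  · exact one_ne_zero

theorem df_ne {i j : ι} {u : F} (hu : u ≠ 0) (k : ι) : df i j u k ≠ 0 := by
  unfold df
  split_ifs
  · exact hu
  · exact inv_ne_zero hu
  · exact one_ne_zero

include h

theorem cl {i j k : ι} (hij : i ≠ j) (hjk : j ≠ k) (hik : i ≠ k) (a b : F) :
    x i j a * x j k b * (x i j a)⁻¹ = x i k (a * b) * x j k b := h.conj_left hij hjk hik a b

theorem cr {i j k : ι} (hij : i ≠ j) (hjk : j ≠ k) (hik : i ≠ k) (a b : F) :
    x j k b * x i j a * (x j k b)⁻¹ = x i j a * x i k (-(a * b)) := h.conj_right hij hjk hik a b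

theorem cc {i j k l : ι} (hij : i ≠ j) (hkl : k ≠ l) (hjk : j ≠ k) (hil : i ≠ l) (a b : F) :
    x i j a * x k l b * (x i j a)⁻¹ = x k l b := by
  rw [h.comm i j k l hij hkl hjk hil, mul_inv_cancel_right]

/-- `a * b * a⁻¹ = b` with `a⁻¹` written as `x (-a)` -/
theorem sandwich {i j k l : ι} (hij : i ≠ j) (hkl : k ≠ l) (hjk : j ≠ k) (hil : i ≠ l) (a b : F) :
    x i j (-a) * x k l b * x i j a = x k l b := by
  have := cc h hij hkl hjk hil (-a) b
  rwa [← h.neg hij, neg_neg] at this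

theorem winv {i j : ι} (hij : i ≠ j) (u : F) : (w x i j u)⁻¹ = w x i j (-u) := by
  rw [w, w, _root_.mul_inv_rev, _root_.mul_inv_rev, ← h.neg hij, ← h.neg hij.symm, inv_neg, mul_assoc]

theorem w_mul_neg {i j : ι} (hij : i ≠ j) (u : F) : w x i j u * w x i j (-u) = 1 := by
  rw [← winv h hij, mul_inv_cancel]

theorem w1 {i j k : ι} (hij : i ≠ j) (hjk : j ≠ k) (hik : i ≠ k) {u : F} (hu : u ≠ 0) (a : F) :
    w x i j u * x i k a * (w x i j u)⁻¹ = x j k (-(u⁻¹ * a)) := by
  have e : u * (-u⁻¹ * a) = -a := by field_simp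
  rw [w, conj_mul3, cc h hij hik hij.symm hik, cl h hij.symm hik hjk, conj_prod, cl h hij hjk hik,
    cc h hij hik hij.symm hik, e, sandwich h hik hjk hjk.symm hik, neg_mul]

theorem w2 {i j k : ι} (hij : i ≠ j) (hjk : j ≠ k) (hik : i ≠ k) {u : F} (hu : u ≠ 0) (a : F) :
    w x i j u * x j k a * (w x i j u)⁻¹ = x i k (u * a) := by
  have e : -u⁻¹ * (u * a) = -a := by field_simp
  rw [w, conj_mul3, cl h hij hjk hik, conj_prod (x j i (-u⁻¹)), cl h hij.symm hik hjk, cc h hij.symm hjk hij hjk, e,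
    sandwich h hjk hik hik.symm hjk, cc h hij hik hij.symm hik]

theorem w3 {i j k : ι} (hij : i ≠ j) (hjk : j ≠ k) (hik : i ≠ k) {u : F} (hu : u ≠ 0) (a : F) :
    w x i j u * x k i a * (w x i j u)⁻¹ = x k j (-(a * u)) := by
  have e : -(-(a * u) * -u⁻¹) = -a := by field_simp
  have e2 := sandwich h hik.symm hjk.symm hik hjk.symm (-a) (-(a * u))
  rw [neg_neg] at e2
  rw [w, conj_mul3, cr h hik.symm hij hjk.symm, conj_prod (x j i (-u⁻¹)), cc h hij.symm hik.symm hik hij.symm,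
    cr h hjk.symm hij.symm hik.symm, e, ← mul_assoc (x k i a), e2, cc h hij hjk.symm hjk hij]

theorem w4 {i j k : ι} (hij : i ≠ j) (hjk : j ≠ k) (hik : i ≠ k) {u : F} (hu : u ≠ 0) (a : F) :
    w x i j u * x k j a * (w x i j u)⁻¹ = x k i (a * u⁻¹) := by
  have e0 : -(a * -u⁻¹) = a * u⁻¹ := by ring
  have e : -(a * u⁻¹ * u) = -a := by field_simp
  have e2 := sandwich h hjk.symm hik.symm hjk hik.symm (-a) (a * u⁻¹)
  rw [neg_neg] at e2
  rw [w, conj_mul3, cc h hij hjk.symm hjk hij, cr h hjk.symm hij.symm hik.symm, conj_prod,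
    cc h hij hjk.symm hjk hij, e0, cr h hik.symm hij hjk.symm, e, ← mul_assoc (x k j a), e2]

theorem w0 {i j k l : ι} (hij : i ≠ j) (hkl : k ≠ l) (hki : k ≠ i) (hkj : k ≠ j) (hli : l ≠ i) (hlj : l ≠ j)
    (u a : F) : w x i j u * x k l a * (w x i j u)⁻¹ = x k l a := by
  rw [w, conj_mul3, cc h hij hkl hkj.symm hli.symm, cc h hij.symm hkl hki.symm hlj.symm,
    cc h hij hkl hkj.symm hli.symm]

theorem w5 (hι : 3 ≤ Fintype.card ι) {i j : ι} (hij : i ≠ j) {u : F} (hu : u ≠ 0) (a : F) :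
    w x i j u * x i j a * (w x i j u)⁻¹ = x j i (-(u⁻¹ * a * u⁻¹)) := by
  obtain ⟨k, hki, hkj⟩ := h.exists_third hι i j
  have e : x i j a = ⁅x i k a, x k j 1⁆ := by rw [h.br i k j hki.symm hkj hij, mul_one]
  rw [e, conj_br, w1 h hij hkj.symm hki.symm hu, w4 h hij hkj.symm hki.symm hu, h.br j k i hkj.symm hki hij.symm,
    one_mul, neg_mul]

theorem w6 (hι : 3 ≤ Fintype.card ι) {i j : ι} (hij : i ≠ j) {u : F} (hu : u ≠ 0) (a : F) :
    w x i j u * x j i a * (w x i j u)⁻¹ = x i j (-(u * a * u)) := by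
  obtain ⟨k, hki, hkj⟩ := h.exists_third hι i j
  have e : x j i a = ⁅x j k a, x k i 1⁆ := by rw [h.br j k i hkj.symm hki hij.symm, mul_one]
  rw [e, conj_br, w2 h hij hkj.symm hki.symm hu, w3 h hij hkj.symm hki.symm hu, h.br i k j hki.symm hkj hij,
    one_mul, mul_neg]

/-- **action of the Weyl elements on the root elements** -/
theorem w_conj (hι : 3 ≤ Fintype.card ι) {i j : ι} (hij : i ≠ j) {u : F} (hu : u ≠ 0) {k l : ι} (hkl : k ≠ l) (a : F) :
    w x i j u * x k l a * (w x i j u)⁻¹ =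
      x (Equiv.swap i j k) (Equiv.swap i j l) (cf i j u k * (cf i j u l)⁻¹ * a) := by
  by_cases hki : k = i
  · subst hki
    rw [Equiv.swap_apply_left]
    by_cases hlj : l = j
    · subst hlj
      rw [Equiv.swap_apply_right, w5 h hι hij hu]
      congr 1
      simp [cf, hkl.symm]
      ring
    · rw [Equiv.swap_apply_of_ne_of_ne hkl.symm hlj, w1 h hij (Ne.symm hlj) hkl hu]
      congr 1
      simp [cf, hkl.symm, hlj]
  by_cases hkj : k = j
  · subst hkj
    rw [Equiv.swap_apply_right]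
    by_cases hli : l = i
    · subst hli
      rw [Equiv.swap_apply_left, w6 h hι hij hu]
      congr 1
      simp [cf, hkl]
      ring
    · rw [Equiv.swap_apply_of_ne_of_ne hli hkl.symm, w2 h hij hkl (Ne.symm hli) hu]
      congr 1
      simp [cf, hki, hli, hkl.symm]
  rw [Equiv.swap_apply_of_ne_of_ne hki hkj]
  by_cases hli : l = i
  · subst hli
    rw [Equiv.swap_apply_left, w3 h hij (Ne.symm hkj) (Ne.symm hki) hu]
    congr 1
    simp [cf, hki, hkj]
    ring
  by_cases hlj : l = j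
  · subst hlj
    rw [Equiv.swap_apply_right, w4 h hij (Ne.symm hkj) (Ne.symm hki) hu]
    congr 1
    simp [cf, hki, hkj, hli]
    ring
  rw [Equiv.swap_apply_of_ne_of_ne hli hlj, w0 h hij hkl hki hkj hli hlj]
  congr 1
  simp [cf, hki, hkj, hli, hlj]

omit h in
theorem cf_swap (i j : ι) (hij : i ≠ j) (u : F) (k : ι) :
    cf i j u (Equiv.swap i j k) * cf i j (-1) k = df i j u k := by
  by_cases hki : k = i
  · subst hki
    rw [Equiv.swap_apply_left]
    simp [cf, df, hij.symm]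
  by_cases hkj : k = j
  · subst hkj
    rw [Equiv.swap_apply_right]
    simp [cf, df, hki]
  rw [Equiv.swap_apply_of_ne_of_ne hki hkj]
  simp [cf, df, hki, hkj]

/-- **action of the torus on the root elements** -/
theorem t_conj (hι : 3 ≤ Fintype.card ι) {i j : ι} (hij : i ≠ j) {u : F} (hu : u ≠ 0) {k l : ι} (hkl : k ≠ l) (a : F) :
    t x i j u * x k l a * (t x i j u)⁻¹ = x k l (df i j u k * (df i j u l)⁻¹ * a) := by
  have h1 : t x i j u * x k l a * (t x i j u)⁻¹ =
      w x i j u * (w x i j (-1) * x k l a * (w x i j (-1))⁻¹) * (w x i j u)⁻¹ := by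
    rw [t]; group
  have h2 : (-1 : F) ≠ 0 := neg_ne_zero.2 one_ne_zero
  rw [h1, w_conj h hι hij h2 hkl, w_conj h hι hij hu (fun e => hkl ((Equiv.swap i j).injective e)),
    Equiv.swap_apply_self, Equiv.swap_apply_self, ← cf_swap i j hij u k, ← cf_swap i j hij u l]
  congr 1
  rw [mul_inv]
  ring

/-- action on Weyl elements, from the action on root elements -/
theorem conj_w_of {g : Γ} {k l k' l' : ι} {c : F} (hc : c ≠ 0) (h1 : ∀ a, g * x k l a * g⁻¹ = x k' l' (c * a))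
    (h2 : ∀ a, g * x l k a * g⁻¹ = x l' k' (c⁻¹ * a)) (a : F) : g * w x k l a * g⁻¹ = w x k' l' (c * a) := by
  have e : g * w x k l a * g⁻¹ = (g * x k l a * g⁻¹) * (g * x l k (-a⁻¹) * g⁻¹) * (g * x k l a * g⁻¹) := by
    rw [w]; group
  rw [e, h1, h2, w]
  congr 3
  rw [mul_inv]
  ring

theorem w_conj_w (hι : 3 ≤ Fintype.card ι) {i j : ι} (hij : i ≠ j) {u : F} (hu : u ≠ 0) {k l : ι} (hkl : k ≠ l) (a : F) :
    w x i j u * w x k l a * (w x i j u)⁻¹ =
      w x (Equiv.swap i j k) (Equiv.swap i j l) (cf i j u k * (cf i j u l)⁻¹ * a) := by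
  refine conj_w_of h (mul_ne_zero (cf_ne hu _) (inv_ne_zero (cf_ne hu _))) (w_conj h hι hij hu hkl) (fun a => ?_) a
  rw [w_conj h hι hij hu hkl.symm, mul_inv, inv_inv, mul_comm (cf i j u l)]

theorem t_conj_w (hι : 3 ≤ Fintype.card ι) {i j : ι} (hij : i ≠ j) {u : F} (hu : u ≠ 0) {k l : ι} (hkl : k ≠ l) (a : F) :
    t x i j u * w x k l a * (t x i j u)⁻¹ = w x k l (df i j u k * (df i j u l)⁻¹ * a) := by
  refine conj_w_of h (mul_ne_zero (df_ne hu _) (inv_ne_zero (df_ne hu _))) (t_conj h hι hij hu hkl) (fun a => ?_) a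
  rw [t_conj h hι hij hu hkl.symm, mul_inv, inv_inv, mul_comm (df i j u l)]

theorem w_eq {i j : ι} (hij : i ≠ j) (u : F) : w x i j u = t x i j u * w x i j 1 := by
  have := w_mul_neg h hij (-1)
  rw [neg_neg] at this
  rw [t, mul_assoc, this, mul_one]

/-- general form of the action on torus elements -/
theorem conj_t_of {g : Γ} {k l k' l' : ι} (hkl' : k' ≠ l') {c : F} (h1 : ∀ a, g * w x k l a * g⁻¹ = w x k' l' (c * a))
    (a : F) : g * t x k l a * g⁻¹ = t x k' l' (c * a) * (t x k' l' c)⁻¹ := by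
  have e : g * t x k l a * g⁻¹ = (g * w x k l a * g⁻¹) * (g * w x k l (-1) * g⁻¹) := by
    rw [t]; group
  rw [e, h1, h1, w_eq h hkl' (c * a)]
  have e2 : c * (-1) = -c := by ring
  rw [e2, ← winv h hkl', w_eq h hkl' c]
  group

theorem t_one {i j : ι} (hij : i ≠ j) : t x i j 1 = 1 := w_mul_neg h hij 1

end Cfsg.Agent.CTFrame.Weyl
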